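import Cfsg.Agent.OddCyclic.EmptyY.Loc

/-!
# Modules generated by the conjugates of a subgroup with large centraliser

`Blk ρ K B l`: `Γ = K B` acts on `V`, `K` simple normal, `B` a 2-group centralising `l ≤ V`, a Sylow 2-subgroup of `K`
centralises `l`, `V = ⟨l^K⟩`.

* `Blk.ker_eq` : the kernel is `C_Γ(K)`;
* `Blk.fr` : for faithful `ρ`, a best offender `A ≤ Γ` gives the frame `Fr ρ K A`.
-/

set_option autoImplicit false
set_option linter.unusedSectionVars false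
set_option linter.dupNamespace false

namespace Cfsg.Agent.OddCyclic.EmptyY.Blk

open Subgroup Cfsg.Agent.OddCyclic.T1Module Cfsg.Agent.OddCyclic.FFBasic Cfsg.Agent.OddCyclic.FFRed
  Cfsg.Agent.OddCyclic.T1Defs

variable {Γ : Type*} [Group Γ] {V : Type*} [CommGroup V]

structure Blk (ρ : Γ →* MulAut V) (K B : Subgroup Γ) (l : Subgroup V) : Prop where
  normal : K.Normal
  simple : IsSimpleGroup K
  nonab : ∃ a ∈ K, ∃ b ∈ K, a * b ≠ b * a
  sup : K ⊔ B = ⊤
  two : IsPGroup 2 B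
  Bfix : ∀ b ∈ B, ∀ v ∈ l, ρ b v = v
  syl : ∃ P : Subgroup Γ, P ≤ K ∧ ¬ 2 ∣ P.relIndex K ∧ ∀ p ∈ P, ∀ v ∈ l, ρ p v = v
  gen : ∀ U : Subgroup V, (∀ g ∈ K, ∀ v ∈ l, ρ g v ∈ U) → U = ⊤
  nt : ∃ g ∈ K, ∃ v, ρ g v ≠ v

/-- the pointwise stabiliser of `l` -/
def st (ρ : Γ →* MulAut V) (l : Subgroup V) : Subgroup Γ where
  carrier := {g | ∀ v ∈ l, ρ g v = v}
  mul_mem' := fun {a b} ha hb w hw => by rw [map_mul, MulAut.mul_apply, hb w hw, ha w hw]
  one_mem' := fun w _ => by rw [map_one]; rfl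
  inv_mem' := fun {a} ha w hw => fx_inv (ρ := ρ) (v := w) (ha w hw)

theorem mem_st {ρ : Γ →* MulAut V} {l : Subgroup V} {g : Γ} : g ∈ st ρ l ↔ ∀ v ∈ l, ρ g v = v := Iff.rfl

theorem relIndex_sup' [Finite Γ] (Q K : Subgroup Γ) [K.Normal] : Q.relIndex (Q ⊔ K) = Q.relIndex K := by
  have h1 := card_mul_relIndex (A := Q) (B := Q ⊔ K) le_sup_left
  have h2 := card_mul_relIndex (A := K) (B := Q ⊔ K) le_sup_right
  rw [relIndex_sup_right] at h2
  have h3 := card_mul_relIndex (A := K ⊓ Q) (B := Q) inf_le_right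
  rw [inf_relIndex_right] at h3
  have h4 := card_mul_relIndex (A := K ⊓ Q) (B := K) inf_le_left
  rw [inf_relIndex_left] at h4
  have h5 : 0 < Nat.card (K ⊓ Q : Subgroup Γ) * K.relIndex Q := by
    rw [h3]; exact Nat.card_pos
  apply Nat.eq_of_mul_eq_mul_left h5
  rw [← h2, ← h4, ← h3] at h1
  rw [h1]
  ring

theorem center_eq {K : Subgroup Γ} (hs : IsSimpleGroup K) (hn : ∃ a ∈ K, ∃ b ∈ K, a * b ≠ b * a) :
    K ⊓ centralizer (K : Set Γ) = ⊥ := by
  rcases hs.eq_bot_or_eq_top_of_normal (center K) inferInstance with h | h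
  · rw [eq_bot_iff]
    rintro x ⟨hx, hx'⟩
    have h1 : (⟨x, hx⟩ : K) ∈ center K := by
      rw [mem_center_iff]
      intro y
      exact Subtype.ext (mem_centralizer_iff.1 hx' y y.2)
    rw [h, mem_bot] at h1
    exact mem_bot.2 (congrArg Subtype.val h1)
  · exfalso
    obtain ⟨a, ha, b, hb, hab⟩ := hn
    have h1 : (⟨a, ha⟩ : K) ∈ center K := by rw [h]; trivial
    exact hab (congrArg Subtype.val (mem_center_iff.1 h1 ⟨b, hb⟩)).symm

variable {ρ : Γ →* MulAut V} {K B : Subgroup Γ} {l : Subgroup V}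

namespace Blk

theorem mem_ker {g : Γ} : g ∈ ρ.ker ↔ ∀ v, ρ g v = v := by
  rw [MonoidHom.mem_ker]
  constructor
  · intro h v
    rw [h]; rfl
  · intro h
    ext v
    exact h v

theorem ker_inf (h : Blk ρ K B l) : ρ.ker ⊓ K = ⊥ := by
  have hs := h.simple
  have hn := h.normal
  rcases hs.eq_bot_or_eq_top_of_normal (ρ.ker.subgroupOf K) inferInstance with h1 | h1
  · rw [subgroupOf_eq_bot] at h1
    exact h1.eq_bot
  · exfalso
    obtain ⟨g, hg, v, hv⟩ := h.nt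
    rw [subgroupOf_eq_top] at h1
    exact hv (mem_ker.1 (h1 hg) v)

/-- `ker ρ ≤ C(K)` -/
theorem ker_le (h : Blk ρ K B l) : ρ.ker ≤ centralizer (K : Set Γ) := by
  intro g hg
  rw [mem_centralizer_iff]
  intro k hk
  have hn := h.normal
  have h1 : k * g * k⁻¹ * g⁻¹ ∈ ρ.ker ⊓ K := by
    refine mem_inf.2 ⟨?_, ?_⟩
    · have h0 : k * g * k⁻¹ ∈ ρ.ker := (MonoidHom.normal_ker ρ).conj_mem g hg k
      exact mul_mem h0 (inv_mem hg)
    · have : k * g * k⁻¹ * g⁻¹ = k * (g * k⁻¹ * g⁻¹) := by group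
      rw [this]
      exact mul_mem hk (hn.conj_mem _ (inv_mem hk) g)
  rw [h.ker_inf, mem_bot] at h1
  calc k * g = (k * g * k⁻¹ * g⁻¹) * (g * k) := by group
    _ = g * k := by rw [h1, one_mul]

/-- the stabiliser of `l` has odd index -/
theorem odd_index [Finite Γ] (h : Blk ρ K B l) : ¬ 2 ∣ (st ρ l).index := by
  have hn := h.normal
  obtain ⟨P, hPK, hP, hPl⟩ := h.syl
  have h1 : st ρ l ⊔ K = ⊤ := by
    rw [eq_top_iff, ← h.sup, sup_comm]
    exact sup_le_sup_right (fun b hb => h.Bfix b hb) K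
  have h2 : (st ρ l).index = (st ρ l).relIndex K := by
    rw [← relIndex_top_right, ← h1, relIndex_sup']
  rw [h2]
  intro h3
  apply hP
  rw [← inf_relIndex_right] at h3
  exact h3.trans (relIndex_dvd_of_le_left K (le_inf (fun p hp => hPl p hp) hPK))

theorem isPGroup_centralizer [Finite Γ] (h : Blk ρ K B l) : IsPGroup 2 (centralizer (K : Set Γ)) := by
  have hn := h.normal
  have hc := center_eq h.simple h.nonab
  rintro ⟨c, hc'⟩
  have h1 : c ∈ K ⊔ B := by rw [h.sup]; trivial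
  obtain ⟨k, hk, b, hb, rfl⟩ := mem_sup_of_normal_left.1 h1
  obtain ⟨n, hn'⟩ := h.two ⟨b, hb⟩
  have hb2 : b ^ 2 ^ n = 1 := congrArg Subtype.val hn'
  refine ⟨n, Subtype.ext ?_⟩
  change (k * b) ^ 2 ^ n = 1
  have h2 : (k * b) ^ 2 ^ n ∈ centralizer (K : Set Γ) := pow_mem hc' _
  have h3 : (k * b) ^ 2 ^ n ∈ K := by
    rw [← QuotientGroup.eq_one_iff, QuotientGroup.mk_pow, QuotientGroup.mk_mul,
      (QuotientGroup.eq_one_iff k).2 hk, one_mul, ← QuotientGroup.mk_pow, hb2]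
    rfl
  have h4 : (k * b) ^ 2 ^ n ∈ K ⊓ centralizer (K : Set Γ) := ⟨h3, h2⟩
  rw [hc, mem_bot] at h4
  exact h4

/-- normal 2-subgroups centralise `l` -/
theorem le_st [Finite Γ] (h : Blk ρ K B l) {C : Subgroup Γ} (hCn : C.Normal) (hC : IsPGroup 2 C) : C ≤ st ρ l := by
  have : Fact (Nat.Prime 2) := ⟨Nat.prime_two⟩
  have h1 : (st ρ l).relIndex C ∣ (st ρ l).index := by
    rw [← relIndex_sup']
    exact relIndex_dvd_index_of_le le_sup_left
  obtain ⟨n, hn⟩ := hC.index ((st ρ l).subgroupOf C)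
  rw [← relIndex_eq_one, relIndex]
  have h2 : ((st ρ l).subgroupOf C).index = (st ρ l).relIndex C := rfl
  rw [← h2, hn] at h1
  rw [hn]
  rcases Nat.eq_zero_or_pos n with rfl | h0
  · rfl
  · exact absurd ((dvd_pow_self 2 h0.ne').trans h1) h.odd_index

/-- `C(K) ≤ ker ρ` -/
theorem cent_le_ker [Finite Γ] (h : Blk ρ K B l) : centralizer (K : Set Γ) ≤ ρ.ker := by
  have hn := h.normal
  have h1 := h.le_st (C := centralizer (K : Set Γ)) inferInstance h.isPGroup_centralizer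
  have h2 : CS ρ (centralizer (K : Set Γ)) = ⊤ := by
    refine h.gen _ fun g hg v hv c hc => ?_
    have h3 := mem_centralizer_iff.1 hc g hg
    rw [← MulAut.mul_apply, ← map_mul, ← h3, map_mul, MulAut.mul_apply, h1 hc v hv]
  intro c hc
  rw [mem_ker]
  intro v
  have h3 : v ∈ CS ρ (centralizer (K : Set Γ)) := by rw [h2]; trivial
  exact h3 c hc

theorem ker_eq [Finite Γ] (h : Blk ρ K B l) : ρ.ker = centralizer (K : Set Γ) :=
  le_antisymm h.ker_le h.cent_le_ker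

/-- for faithful `ρ` a best offender gives the frame -/
theorem fr [Finite Γ] (h : Blk ρ K B l) (hρ : Function.Injective ρ) {A : Subgroup Γ} (hA : BO ρ A) (hA1 : A ≠ ⊥) :
    Fr ρ K A := by
  have hc : centralizer (K : Set Γ) = ⊥ := by
    rw [← h.ker_eq]
    exact (MonoidHom.ker_eq_bot_iff ρ).2 hρ
  refine ⟨hA, hA1, ?_, ?_, ?_⟩
  · intro a _ hl
    have h1 : a ∈ centralizer (K : Set Γ) := mem_centralizer_iff.2 fun x hx => (hl x hx).symm
    rwa [hc, mem_bot] at h1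
  · intro a _ g hg hl
    have h1 : g⁻¹ * a ∈ centralizer (K : Set Γ) := by
      rw [mem_centralizer_iff]
      intro x hx
      have h2 : a * x = g * x * g⁻¹ * a := by rw [← hl x hx]; group
      calc x * (g⁻¹ * a) = g⁻¹ * (g * x * g⁻¹ * a) := by group
        _ = g⁻¹ * (a * x) := by rw [h2]
        _ = _ := by group
    rw [hc, mem_bot, inv_mul_eq_one] at h1
    rwa [← h1]
  · intro y _ hy1
    by_contra hcon
    push Not at hcon
    apply hy1
    apply hρ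
    rw [map_one]
    ext v
    exact hcon v

/-- passing to a quotient acting on `V` -/
theorem push [Finite Γ] (h : Blk ρ K B l) {Γ' : Type*} [Group Γ'] {π : Γ →* Γ'} (hπ : Function.Surjective π)
    {ρ' : Γ' →* MulAut V} (hρ : ∀ g, ρ' (π g) = ρ g) : Blk ρ' (K.map π) (B.map π) l := by
  have hn := h.normal
  have hs := h.simple
  have hinj : ∀ x ∈ K, π x = 1 → x = 1 := by
    intro x hx hx1
    have h1 : x ∈ ρ.ker ⊓ K := mem_inf.2 ⟨by rw [MonoidHom.mem_ker, ← hρ, hx1, map_one], hx⟩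
    rw [h.ker_inf, mem_bot] at h1
    exact h1
  have e : K ≃* K.map π := by
    refine MulEquiv.ofBijective (π.subgroupMap K) ⟨?_, π.subgroupMap_surjective K⟩
    rw [injective_iff_map_eq_one]
    rintro ⟨x, hx⟩ hx1
    exact Subtype.ext (hinj x hx (congrArg Subtype.val hx1))
  refine ⟨hn.map π hπ, MulEquiv.isSimpleGroup e.symm, ?_, ?_, h.two.map π, ?_, ?_, ?_, ?_⟩
  · obtain ⟨a, ha, b, hb, hab⟩ := h.nonab
    refine ⟨π a, ⟨a, ha, rfl⟩, π b, ⟨b, hb, rfl⟩, fun h1 => hab ?_⟩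
    rw [← map_mul, ← map_mul, ← mul_inv_eq_one, ← map_inv, ← map_mul] at h1
    exact mul_inv_eq_one.1 (hinj _ (mul_mem (mul_mem ha hb) (inv_mem (mul_mem hb ha))) h1)
  · rw [← Subgroup.map_sup, h.sup, ← MonoidHom.range_eq_map, MonoidHom.range_eq_top.2 hπ]
  · rintro _ ⟨b, hb, rfl⟩ v hv
    rw [hρ]; exact h.Bfix b hb v hv
  · obtain ⟨P, hPK, hP, hPl⟩ := h.syl
    refine ⟨P.map π, map_mono hPK, ?_, ?_⟩
    · rw [relIndex_map_map]
      have h0 : K ⊔ π.ker = (P ⊔ π.ker) ⊔ K := by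
        rw [sup_right_comm, sup_eq_right.2 hPK]
      intro h1
      rw [h0, relIndex_sup'] at h1
      exact hP (h1.trans (relIndex_dvd_of_le_left K le_sup_left))
    · rintro _ ⟨p, hp, rfl⟩ v hv
      rw [hρ]; exact hPl p hp v hv
  · intro U hU
    refine h.gen U fun g hg v hv => ?_
    rw [← hρ]
    exact hU _ ⟨g, hg, rfl⟩ v hv
  · obtain ⟨g, hg, v, hv⟩ := h.nt
    exact ⟨π g, ⟨g, hg, rfl⟩, v, by rw [hρ]; exact hv⟩

end Blk

end Cfsg.Agent.OddCyclic.EmptyY.Blk
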