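import Cfsg.Agent.OddCyclic.EmptyY.Pair

/-!
# T_cyc, case (C) in NS, hypothesis (Y): the counting argument

Copy of `MinSimple/EmptyE/Count.lean` for the structure `NPts` (points of order `2 ^ κ`).

* `chain`, `pp`, `step2`, `step3`;
* `false_of_step4` : (7.4) implies `False`.
-/

set_option autoImplicit false

namespace Cfsg.Agent.OddCyclic.EmptyY.Cnt

open Subgroup
open Cfsg.Agent.MinSimple.EmptyE.CountDefs Cfsg.Agent.OddCyclic.EmptyY.Pair Cfsg.Agent.OddCyclic.EmptyY.Defs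
open Cfsg.Agent.MinSimple.Geo (cj mem_cj conj_mem_cj cj_cj cj_one cj_inv_cj cj_cj_inv cj_mono cj_le_iff cj_le_cj
  cj_eq_of_mem_normalizer mem_normalizer_iff_cj card_cj)

universe u

variable {G : Type u} [Group G] {PP BB : Set (Subgroup G)} {κ : ℕ}

/-- the elements of `W` commuting with `B` modulo `b` -/
def pp (b W B : Subgroup G) : Subgroup G where
  carrier := {w | w ∈ W ∧ w ∈ normalizer (b : Set G) ∧ ∀ a ∈ B, a * w * a⁻¹ * w⁻¹ ∈ b}
  mul_mem' := by
    rintro w v ⟨h1, h2, h3⟩ ⟨k1, k2, k3⟩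
    refine ⟨mul_mem h1 k1, mul_mem h2 k2, fun a ha => ?_⟩
    have : a * (w * v) * a⁻¹ * (w * v)⁻¹ = (a * w * a⁻¹ * w⁻¹) * (w * (a * v * a⁻¹ * v⁻¹) * w⁻¹) := by
      group
    rw [this]
    exact mul_mem (h3 a ha) ((mem_normalizer_iff.mp h2 _).mp (k3 a ha))
  one_mem' := ⟨one_mem _, one_mem _, fun a _ => by simp⟩
  inv_mem' := by
    rintro w ⟨h1, h2, h3⟩
    refine ⟨inv_mem h1, inv_mem h2, fun a ha => ?_⟩
    have : a * w⁻¹ * a⁻¹ * w⁻¹⁻¹ = w⁻¹ * (a * w * a⁻¹ * w⁻¹)⁻¹ * w⁻¹⁻¹ := by group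
    rw [this]
    exact (mem_normalizer_iff.mp (inv_mem h2) _).mp (inv_mem (h3 a ha))

theorem mem_pp {b W B : Subgroup G} {w : G} :
    w ∈ pp b W B ↔ w ∈ W ∧ w ∈ normalizer (b : Set G) ∧ ∀ a ∈ B, a * w * a⁻¹ * w⁻¹ ∈ b := Iff.rfl

theorem pp_le (b W B : Subgroup G) : pp b W B ≤ W := fun _ hw => hw.1

theorem pp_anti {b W B B1 : Subgroup G} (h : B1 ≤ B) : pp b W B ≤ pp b W B1 :=
  fun _ hw => ⟨hw.1, hw.2.1, fun a ha => hw.2.2 a (h ha)⟩

theorem chain [Finite G] {D E : Subgroup G} (f : Subgroup G → ℕ) (hD : 1 ≤ f D)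
    (step : ∀ B, D ≤ B → B ≤ E → B ≠ D →
      ∃ B1, D ≤ B1 ∧ B1 ≤ B ∧ B1.relIndex B = 2 ∧ 2 ^ κ * f B1 ≤ f B) :
    ∀ B, D ≤ B → B ≤ E → (D.relIndex B) ^ κ ≤ f B := by
  intro B
  induction hn : Nat.card B using Nat.strong_induction_on generalizing B with
  | _ n ih =>
    intro hDB hBE
    by_cases hB : B = D
    · subst hB; rw [relIndex_self]; simpa using hD
    · obtain ⟨B1, h1, h2, h3, h4⟩ := step B hDB hBE hB
      have hc := relIndex_mul_relIndex ⊥ B1 B bot_le h2
      rw [relIndex_bot_left, relIndex_bot_left, h3] at hc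
      have hpos : 0 < Nat.card B1 := Nat.card_pos
      have h5 := ih _ (by omega) B1 rfl h1 (h2.trans hBE)
      have h6 := relIndex_mul_relIndex D B1 B h1 h2
      rw [h3] at h6
      rw [← h6]
      calc (D.relIndex B1 * 2) ^ κ = 2 ^ κ * (D.relIndex B1) ^ κ := by rw [mul_pow, mul_comm]
        _ ≤ 2 ^ κ * f B1 := Nat.mul_le_mul_left _ h5
        _ ≤ f B := h4

theorem rne [Finite G] (H K : Subgroup G) : H.relIndex K ≠ 0 := by
  rw [relIndex]; exact index_ne_zero_of_finite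

theorem four_le [Finite G] {H K U b : Subgroup G} (hb : Nat.card b = 2 ^ κ) (hU : Nat.card U = 2 ^ (2 * κ))
    (h : H ⊓ U ≤ b) (hUK : U ≤ K) : 2 ^ κ ≤ H.relIndex K := by
  refine le_trans ?_ (relIndex_le_of_le_right hUK (rne _ _))
  have h1 := relIndex_mul_relIndex ⊥ (H ⊓ U) U bot_le inf_le_right
  rw [relIndex_bot_left, relIndex_bot_left, inf_relIndex_right, hU] at h1
  have h2 : Nat.card (H ⊓ U : Subgroup G) ≤ 2 ^ κ := by
    rw [← hb]; exact Nat.card_le_card_of_injective _ (inclusion_injective h)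
  have h3 : 2 ^ κ * 2 ^ κ ≤ 2 ^ κ * H.relIndex U := by
    rw [← pow_add, ← two_mul, ← h1]
    exact Nat.mul_le_mul_right _ h2
  exact Nat.le_of_mul_le_mul_left h3 (by positivity)

theorem centralizer_le_kk {b V : Subgroup G} (hV : V ∈ BB) (hbV : b ≤ V) :
    centralizer (ww BB b : Set G) ≤ kk BB b := by
  intro g hg
  rw [mem_kk]
  have h1 : ∀ U ∈ BB, b ≤ U → g ∈ centralizer (U : Set G) := fun U hU hbU =>
    centralizer_le (le_ww hU hbU) hg
  refine ⟨?_, fun U hU hbU => centralizer_le_normalizer' U (h1 U hU hbU)⟩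
  exact centralizer_le_normalizer' b (centralizer_le hbV (h1 V hV hbV))

theorem le_cent {b b' V : Subgroup G} (hs : Side PP BB b b' V) : ww BB b ≤ centralizer (V : Set G) := by
  rw [Pair.le_centralizer_iff]; exact hs.comm

theorem le_cent' {b b' V : Subgroup G} (hs : Side PP BB b b' V) : ww BB b ≤ centralizer (b' : Set G) :=
  (le_cent hs).trans (centralizer_le hs.le)

theorem le_norm {b b' V : Subgroup G} (hs : Side PP BB b b' V) : ww BB b ≤ normalizer (b' : Set G) :=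
  (le_cent hs).trans ((centralizer_le hs.le).trans (centralizer_le_normalizer' b'))

/-- (7.3) -/
theorem step3 [Finite G] (h : NPts PP BB κ) {b b' V : Subgroup G} (hs : Side PP BB b b' V) :
    ((ww BB b ⊓ centralizer (ww BB b' : Set G)).relIndex (ww BB b ⊓ kk BB b')) ^ κ ≤
      (centralizer ((ww BB b ⊓ kk BB b' : Subgroup G) : Set G)).relIndex (ww BB b') := by
  refine chain (κ := κ) (D := ww BB b ⊓ centralizer (ww BB b' : Set G)) (E := ww BB b ⊓ kk BB b')
    (fun B => (centralizer (B : Set G)).relIndex (ww BB b')) ?_ ?_ _ ?_ le_rfl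
  · exact Nat.one_le_iff_ne_zero.mpr (rne _ _)
  · intro B hDB hBE hne
    obtain ⟨e, he, heW⟩ : ∃ e ∈ B, e ∉ centralizer (ww BB b' : Set G) := by
      by_contra hcon
      push Not at hcon
      exact hne (le_antisymm (fun e he => ⟨(hBE he).1, hcon e he⟩) hDB)
    obtain ⟨U, hU, hbU, v, hv, hev⟩ : ∃ U ∈ BB, b' ≤ U ∧ ∃ v ∈ U, e * v ≠ v * e := by
      by_contra hcon
      push Not at hcon
      apply heW
      have h1 : ww BB b' ≤ centralizer ({e} : Set G) := by
        refine sSup_le ?_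
        rintro U ⟨hU, hbU⟩ v hv
        rw [mem_centralizer_singleton_iff]
        exact (hcon U hU hbU v hv).symm
      rw [mem_centralizer_iff]
      intro w hw
      exact mem_centralizer_singleton_iff.mp (h1 hw)
    have hBn : ∀ a ∈ B, a ∈ centralizer (b' : Set G) ∧ a ∈ normalizer (U : Set G) := by
      intro a ha
      have := mem_kk.mp (hBE ha).2
      exact ⟨le_cent' hs (hBE ha).1, this.2 U hU hbU⟩
    have heU : e ∉ centralizer (U : Set G) := fun h1 =>
      hev (mem_centralizer_iff.mp h1 v hv).symm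
    refine ⟨B ⊓ centralizer (U : Set G), ?_, inf_le_left, ?_, ?_⟩
    · exact le_inf hDB (inf_le_right.trans (centralizer_le (le_ww hU hbU)))
    · rw [relIndex_eq_two_iff]
      refine ⟨e, he, fun f hf => ?_⟩
      by_cases hfU : f ∈ centralizer (U : Set G)
      · right
        refine ⟨⟨hf, hfU⟩, fun h1 => heU ?_⟩
        have := mul_mem (inv_mem hfU) h1.2
        rwa [inv_mul_cancel_left] at this
      · left
        refine ⟨⟨mul_mem hf he, ?_⟩, fun h1 => hfU h1.2⟩
        have h1 : ∃ v ∈ U, f * v ≠ v * f := by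
          by_contra hcon
          push Not at hcon
          exact hfU (mem_centralizer_iff.mpr fun v hv => (hcon v hv).symm)
        have h2 := h.uniq b' hs.hb' U hU hbU f (hBn f hf).1 (hBn f hf).2 e (hBn e he).1 (hBn e he).2
          h1 ⟨v, hv, hev⟩
        exact mem_centralizer_iff.mpr fun v hv => (h2 v hv).symm
    · change 2 ^ κ * (centralizer ((B ⊓ centralizer (U : Set G) : Subgroup G) : Set G)).relIndex (ww BB b') ≤
        (centralizer (B : Set G)).relIndex (ww BB b')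
      rw [← inf_relIndex_right (centralizer (B : Set G)), ← inf_relIndex_right
        (centralizer ((B ⊓ centralizer (U : Set G) : Subgroup G) : Set G)),
        ← relIndex_mul_relIndex (centralizer (B : Set G) ⊓ ww BB b')
          (centralizer ((B ⊓ centralizer (U : Set G) : Subgroup G) : Set G) ⊓ ww BB b') (ww BB b')
          (inf_le_inf_right _ (centralizer_le inf_le_left)) inf_le_right]
      refine Nat.mul_le_mul_right _ (four_le (h.cardP b' hs.hb') (h.cardB U hU) (U := U) ?_ ?_)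
      · rintro u ⟨⟨huB, -⟩, huU⟩
        rcases h.act b' hs.hb' U hU hbU e (hBn e he).1 (hBn e he).2 with h1 | ⟨-, h1⟩
        · exact absurd (h1 v hv) hev
        · exact h1 u huU (mem_centralizer_iff.mp huB e he)
      · refine le_inf ?_ (le_ww hU hbU)
        rw [Subgroup.le_centralizer_iff]
        exact inf_le_right
  · exact le_inf inf_le_left (inf_le_right.trans (centralizer_le_kk hs.hV hs.le))

/-- (7.2) -/
theorem step2 (h : NPts PP BB κ) {b b' V V' : Subgroup G} (hs : Side PP BB b b' V)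
    (hs' : Side PP BB b' b V') (hne : b ⊓ b' = ⊥) :
    ww BB b' ⊓ kk BB b ≤ centralizer ((ww BB b ⊓ kk BB b' : Subgroup G) : Set G) := by
  have key : ∀ {b b' V : Subgroup G}, Side PP BB b b' V → ∀ w ∈ ww BB b ⊓ kk BB b', ∀ v ∈ ww BB b',
      w * v * w⁻¹ * v⁻¹ ∈ b' := by
    intro b b' V hs w hw
    have hww := ww_sq h hs.hb w hw.1
    have hwk := mem_kk.mp hw.2
    have hle : ww BB b' ≤ pp b' (ww BB b') (zpowers w) := by
      refine sSup_le ?_
      rintro U ⟨hU, hbU⟩ v hv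
      have hvW : v ∈ ww BB b' := le_ww hU hbU hv
      refine mem_pp.mpr ⟨hvW, ?_, ?_⟩
      · refine centralizer_le_normalizer' b' (mem_centralizer_iff.mpr fun y hy => ?_)
        exact ww_comm h hs.hb' y (le_ww hU hbU (hbU hy)) v hvW
      · intro c hc
        have hck := mem_kk.mp ((zpowers_le (H := kk BB b')).mpr hw.2 hc)
        have hcc : c ∈ centralizer (b' : Set G) :=
          le_cent' hs ((zpowers_le (H := ww BB b)).mpr hw.1 hc)
        rcases h.act b' hs.hb' U hU hbU c hcc (hck.2 U hU hbU) with h1 | ⟨h1, -⟩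
        · rw [h1 v hv]
          have : v * c * c⁻¹ * v⁻¹ = 1 := by group
          rw [this]; exact one_mem _
        · exact h1 v hv
    intro v hv
    exact (mem_pp.mp (hle hv)).2.2 w (mem_zpowers w)
  intro v hv
  rw [mem_centralizer_iff]
  intro w hw
  have h1 := key hs w hw v hv.1
  have h2 := key hs' v hv w hw.1
  have h3 : w * v * w⁻¹ * v⁻¹ ∈ b := by
    have := inv_mem h2
    have h4 : (v * w * v⁻¹ * w⁻¹)⁻¹ = w * v * w⁻¹ * v⁻¹ := by group
    rwa [h4] at this
  have h4 : w * v * w⁻¹ * v⁻¹ ∈ b ⊓ b' := ⟨h3, h1⟩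
  rw [hne, mem_bot] at h4
  calc w * v = (w * v * w⁻¹ * v⁻¹) * (v * w) := by group
    _ = v * w := by rw [h4, one_mul]

/-- (7.4) implies a contradiction -/
theorem false_of_step4 [Finite G] (h : NPts PP BB κ) (step4 : ∀ b b' V : Subgroup G, Side PP BB b b' V →
    ((ww BB b ⊓ kk BB b').relIndex (ww BB b)) ^ κ ≤ (pp b' (ww BB b') (ww BB b)).relIndex (ww BB b')) : False := by
  obtain ⟨b, b', V, V', hs, hs', w, hw, w', hw', hww⟩ := exists_pair h
  have hne : b ⊓ b' = ⊥ := by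
    refine h.inter b hs.hb b' hs.hb' ?_
    rintro rfl
    exact hww (ww_comm h hs.hb w hw w' hw')
  have hne' : b' ⊓ b = ⊥ := by rw [inf_comm]; exact hne
  set W := ww BB b with hWdef
  set W' := ww BB b' with hWdef'
  have e3 := step3 h hs
  have e3' := step3 h hs'
  have e4 := step4 _ _ _ hs
  have e4' := step4 _ _ _ hs'
  have hup : ∀ {n m : ℕ}, 1 ≤ n → n ^ κ ≤ m → n ^ 2 ≤ m := fun {n m} hn hm =>
    (Nat.pow_le_pow_right hn h.two_le).trans hm
  rw [← hWdef, ← hWdef'] at e3 e3' e4 e4'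
  -- (7.2)
  have f3 : (centralizer ((W ⊓ kk BB b' : Subgroup G) : Set G)).relIndex W' ≤ (W' ⊓ kk BB b).relIndex W' :=
    relIndex_le_of_le_left (step2 h hs hs' hne) (rne _ _)
  have f3' : (centralizer ((W' ⊓ kk BB b : Subgroup G) : Set G)).relIndex W ≤ (W ⊓ kk BB b').relIndex W :=
    relIndex_le_of_le_left (step2 h hs' hs hne') (rne _ _)
  have hpp : ∀ {b b' V : Subgroup G}, Side PP BB b b' V →
      (pp b' (ww BB b') (ww BB b)).relIndex (ww BB b') ≤
        (ww BB b' ⊓ centralizer (ww BB b : Set G)).relIndex (ww BB b') := by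
    intro b b' V hs
    refine relIndex_le_of_le_left ?_ (rne _ _)
    rintro v ⟨hv, hvC⟩
    refine mem_pp.mpr ⟨hv, ?_, fun a ha => ?_⟩
    · refine centralizer_le_normalizer' b' (mem_centralizer_iff.mpr fun y hy => ?_)
      exact ww_comm h hs.hb' y (le_ww hs.hV hs.le (hs.le hy)) v hv
    · rw [mem_centralizer_iff.mp hvC a ha]
      have : v * a * a⁻¹ * v⁻¹ = 1 := by group
      rw [this]; exact one_mem _
  have f4 := hpp hs
  have f4' := hpp hs'
  have hprod : (W' ⊓ centralizer (W : Set G)).relIndex (W' ⊓ kk BB b) * (W' ⊓ kk BB b).relIndex W' =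
      (W' ⊓ centralizer (W : Set G)).relIndex W' :=
    relIndex_mul_relIndex _ _ _ (inf_le_inf_left _ (centralizer_le_kk hs'.hV hs'.le)) inf_le_left
  have hprod' : (W ⊓ centralizer (W' : Set G)).relIndex (W ⊓ kk BB b') * (W ⊓ kk BB b').relIndex W =
      (W ⊓ centralizer (W' : Set G)).relIndex W :=
    relIndex_mul_relIndex _ _ _ (inf_le_inf_left _ (centralizer_le_kk hs.hV hs.le)) inf_le_left
  rw [← hWdef, ← hWdef'] at f4 f4'
  rw [← hprod] at f4
  rw [← hprod'] at f4'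
  have posA : 0 < (W ⊓ kk BB b').relIndex W := Nat.pos_of_ne_zero (rne _ _)
  have posB : 0 < (W' ⊓ kk BB b).relIndex W' := Nat.pos_of_ne_zero (rne _ _)
  have posA0 : 0 < (W ⊓ centralizer (W' : Set G)).relIndex (W ⊓ kk BB b') :=
    Nat.pos_of_ne_zero (rne _ _)
  have posB0 : 0 < (W' ⊓ centralizer (W : Set G)).relIndex (W' ⊓ kk BB b) :=
    Nat.pos_of_ne_zero (rne _ _)
  have g1 := hup posA0 (e3.trans f3)
  have g1' := hup posB0 (e3'.trans f3')
  have g2 := hup posA (e4.trans f4)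
  have g2' := hup posB (e4'.trans f4')
  generalize (W ⊓ kk BB b').relIndex W = A at *
  generalize (W' ⊓ kk BB b).relIndex W' = B at *
  generalize (W ⊓ centralizer (W' : Set G)).relIndex (W ⊓ kk BB b') = A0 at *
  generalize (W' ⊓ centralizer (W : Set G)).relIndex (W' ⊓ kk BB b) = B0 at *
  -- `A0² ≤ B`, `B0² ≤ A`, `A² ≤ B0 B`, `B² ≤ A0 A`
  have k1 : A ^ 3 ≤ B ^ 2 := by
    have : A * A ^ 3 ≤ A * B ^ 2 := by
      calc A * A ^ 3 = (A ^ 2) ^ 2 := by ring
        _ ≤ (B0 * B) ^ 2 := Nat.pow_le_pow_left g2 2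
        _ = B0 ^ 2 * B ^ 2 := by ring
        _ ≤ A * B ^ 2 := Nat.mul_le_mul_right _ g1'
    exact Nat.le_of_mul_le_mul_left this posA
  have k2 : B ^ 3 ≤ A ^ 2 := by
    have : B * B ^ 3 ≤ B * A ^ 2 := by
      calc B * B ^ 3 = (B ^ 2) ^ 2 := by ring
        _ ≤ (A0 * A) ^ 2 := Nat.pow_le_pow_left g2' 2
        _ = A0 ^ 2 * A ^ 2 := by ring
        _ ≤ B * A ^ 2 := Nat.mul_le_mul_right _ g1
    exact Nat.le_of_mul_le_mul_left this posB
  have kA : A = 1 := by
    by_contra hA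
    have h2 : 2 ≤ A := by omega
    have h3 : A ^ 9 ≤ A ^ 4 := by
      calc A ^ 9 = (A ^ 3) ^ 3 := by ring
        _ ≤ (B ^ 2) ^ 3 := Nat.pow_le_pow_left k1 3
        _ = (B ^ 3) ^ 2 := by ring
        _ ≤ (A ^ 2) ^ 2 := Nat.pow_le_pow_left k2 2
        _ = A ^ 4 := by ring
    have h4 : A ^ 4 < A ^ 9 := Nat.pow_lt_pow_right h2 (by norm_num)
    omega
  subst kA
  have kB : B = 1 := by
    by_contra hB
    have h2 : 2 ≤ B := by omega
    have : 2 ^ 3 ≤ B ^ 3 := Nat.pow_le_pow_left h2 3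
    omega
  subst kB
  have kB0 : B0 = 1 := by
    by_contra hB
    have h2 : 2 ≤ B0 := by omega
    have : 2 ^ 2 ≤ B0 ^ 2 := Nat.pow_le_pow_left h2 2
    omega
  subst kB0
  have hfin : W' ≤ W' ⊓ centralizer (W : Set G) := by
    rw [← relIndex_eq_one, ← hprod]
  exact hww (mem_centralizer_iff.mp (hfin hw').2 w hw)

end Cfsg.Agent.OddCyclic.EmptyY.Cnt
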