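import Cfsg.Agent.MinSimple.EmptyE.YBlock
import Cfsg.Agent.MinSimple.EmptyE.CountDefs

/-!
# T_cyc, case (C) (`Empty`) in NS: hypothesis (Y) — the interfaces

`blueprints/S0342-Empty-NS-count-helper129.md`.

* `Fra S V Y e k` : the input (hypothesis (Y)): `V ≤ Z_J` of order `q² = 2^(2k)`, `N_G(J) ≤ N_G(V) = L`, `Y ≤ V` of
  order `q = 2^k ≥ 4`, `e ∈ S` with `[V, e] = C_V(e) = Y`, the only involution of `S/C_S(V)`;
* `NPts PP BB k` : the points/lines geometry, input of the counting argument.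
-/

set_option autoImplicit false

namespace Cfsg.Agent.OddCyclic.EmptyY.Defs

open Subgroup Cfsg Cfsg.Agent.ZN Cfsg.Agent.ZN.ChoiceBase Cfsg.Agent.ZN.ChoiceSit
open Cfsg.Agent.MinSimple.EmptyTI
open Cfsg.Agent.MinSimple.EmptyE.CountDefs (kk)

universe u

variable {G : Type u} [Group G]

/-- The input: the frame of (C) together with hypothesis (Y). -/
structure Fra (S : Sylow 2 G) (V Y : Subgroup G) (e : G) (k : ℕ) : Prop where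
  two_le : 2 ≤ k
  V_le : V ≤ zj (S : Subgroup G)
  nj_le : normalizer (jj (S : Subgroup G) : Set G) ≤ normalizer (V : Set G)
  card_V : Nat.card V = 2 ^ (2 * k)
  Y_le : Y ≤ V
  card_Y : Nat.card Y = 2 ^ k
  /-- the conjugates of `Y` under `L = N_G(V)` generate `V` -/
  gen : ∀ H : Subgroup G, (∀ g ∈ normalizer (V : Set G), cj g Y ≤ H) → V ≤ H
  /-- `J_u = ⟨J^{C_G(u)}⟩` centralizes `Y` for `u ∈ Y#` -/
  closed : ∀ u ∈ Y, u ≠ 1 → Y ≤ iy (S : Subgroup G) u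
  /-- (Empty): `J_u` centralizes `C_V(T)`, `T` a Sylow 2-subgroup of `C_L(u)` -/
  emp : ∀ u ∈ V, u ≠ 1 → ∀ T : Subgroup G, Syl T (normalizer (V : Set G) ⊓ centralizer ({u} : Set G)) →
    V ⊓ centralizer (T : Set G) ≤ iy (S : Subgroup G) u
  not_le : ∃ z ∈ Y, z ≠ 1 ∧ ¬ centralizer ({z} : Set G) ≤ normalizer (V : Set G)
  e_mem : e ∈ (S : Subgroup G)
  /-- `C_V(e) = Y` -/
  fix : ∀ v ∈ V, (e * v = v * e ↔ v ∈ Y)
  /-- `[V, e] ≤ Y` -/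
  comm : ∀ v ∈ V, e * v * e⁻¹ * v⁻¹ ∈ Y
  /-- `e C_S(V)` is the only involution of `S/C_S(V)` -/
  uniq : ∀ s ∈ (S : Subgroup G), s * s ∈ centralizer (V : Set G) → s ∉ centralizer (V : Set G) →
    s * e⁻¹ ∈ centralizer (V : Set G)
  /-- `M = N_G(Y)` has characteristic 2 -/
  char2 : normalizer (Y : Set G) ⊓ centralizer (o2 (normalizer (Y : Set G)) : Set G) ≤
    o2 (normalizer (Y : Set G))
  /-- `⟨N(Y), N(V)⟩` is not 2-local -/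
  core : ∀ X : Subgroup G, IsPGroup 2 X → normalizer (Y : Set G) ≤ normalizer (X : Set G) →
    normalizer (V : Set G) ≤ normalizer (X : Set G) → X = ⊥

/-- The points/lines geometry: `PP` = the conjugates of `Y`, `BB` = the conjugates of `V`. -/
structure NPts (PP BB : Set (Subgroup G)) (k : ℕ) : Prop where
  two_le : 2 ≤ k
  cjP : ∀ g : G, ∀ Y ∈ PP, cj g Y ∈ PP
  cjB : ∀ g : G, ∀ V ∈ BB, cj g V ∈ BB
  cardP : ∀ Y ∈ PP, Nat.card Y = 2 ^ k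
  cardB : ∀ V ∈ BB, Nat.card V = 2 ^ (2 * k)
  sq : ∀ V ∈ BB, ∀ v ∈ V, v * v = 1
  /-- points are TI -/
  inter : ∀ Y ∈ PP, ∀ Y' ∈ PP, Y ≠ Y' → Y ⊓ Y' = ⊥
  /-- two lines through `Y` meet in `Y` -/
  interB : ∀ Y ∈ PP, ∀ V ∈ BB, ∀ V' ∈ BB, Y ≤ V → Y ≤ V' → V ≠ V' → V ⊓ V' ≤ Y
  comm : ∀ Y ∈ PP, ∀ V ∈ BB, ∀ V' ∈ BB, Y ≤ V → Y ≤ V' → ∀ v ∈ V, ∀ v' ∈ V', v * v' = v' * v
  /-- an element of `C(Y) ∩ N(V)` acts on `V` trivially or with `[V, e] ≤ Y = C_V(e)` -/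
  act : ∀ Y ∈ PP, ∀ V ∈ BB, Y ≤ V → ∀ e ∈ centralizer (Y : Set G), e ∈ normalizer (V : Set G) →
    (∀ v ∈ V, e * v = v * e) ∨ ((∀ v ∈ V, e * v * e⁻¹ * v⁻¹ ∈ Y) ∧ ∀ v ∈ V, e * v = v * e → v ∈ Y)
  /-- `C(Y) ∩ N(V)` induces on `V` a group of order at most 2 -/
  uniq : ∀ Y ∈ PP, ∀ V ∈ BB, Y ≤ V → ∀ e ∈ centralizer (Y : Set G), e ∈ normalizer (V : Set G) →
    ∀ f ∈ centralizer (Y : Set G), f ∈ normalizer (V : Set G) →
    (∃ v ∈ V, e * v ≠ v * e) → (∃ v ∈ V, f * v ≠ v * f) → ∀ v ∈ V, e * f * v = v * (e * f)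
  /-- `N(Y)` is transitive on the lines through `Y` -/
  trans : ∀ Y ∈ PP, ∀ V ∈ BB, ∀ V' ∈ BB, Y ≤ V → Y ≤ V' → ∃ m ∈ normalizer (Y : Set G), cj m V = V'
  /-- `O₂(N(Y)/K_Y) = 1` -/
  o2 : ∀ Y ∈ PP, ∀ X : Subgroup G, kk BB Y ≤ X → X ≤ normalizer (Y : Set G) →
    normalizer (Y : Set G) ≤ normalizer (X : Set G) → (∃ n : ℕ, (kk BB Y).relIndex X = 2 ^ n) → X ≤ kk BB Y
  /-- a flag is normalized by a Sylow 2-subgroup `S` of `G`, with `N_G(J(S)) ≤ N_G(V)` -/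
  flag : ∀ Y ∈ PP, ∀ V ∈ BB, Y ≤ V → ∃ S : Sylow 2 G, (S : Subgroup G) ≤ normalizer (Y : Set G) ∧
    (S : Subgroup G) ≤ normalizer (V : Set G) ∧
    normalizer (jj (S : Subgroup G) : Set G) ≤ normalizer (V : Set G)
  /-- the elementary abelian subgroups of largest order in `N(V)` centralize `V` -/
  cenV : ∀ S : Sylow 2 G, ∀ A ∈ AA (S : Subgroup G), ∀ V ∈ BB, A ≤ normalizer (V : Set G) →
    A ≤ centralizer (V : Set G)
  /-- the elementary abelian subgroups of largest order in `N(Y)` centralize `Y` -/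
  cenY : ∀ S : Sylow 2 G, ∀ A ∈ AA (S : Subgroup G), ∀ Y ∈ PP, A ≤ normalizer (Y : Set G) →
    A ≤ centralizer (Y : Set G)
  /-- `⟨N(Y), N(V)⟩` is not 2-local -/
  core : ∃ Y ∈ PP, ∃ V ∈ BB, Y ≤ V ∧ ∀ X : Subgroup G, IsPGroup 2 X →
    normalizer (Y : Set G) ≤ normalizer (X : Set G) → normalizer (V : Set G) ≤ normalizer (X : Set G) → X = ⊥

end Cfsg.Agent.OddCyclic.EmptyY.Defs
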