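import Cfsg.Agent.OddCyclic.EmptyY.Off

/-!
# The abstract form of the key step (F)

`Blk ρ K B l`, `ρ` faithful, `l` TI with `|l| ≥ 4`, `B` generated by elementary abelian subgroups `A` with
`|V : C_V(A)| ≤ |A|`, `l` is the only conjugate of `l` under `K` centralised by `B`: contradiction.
-/

set_option autoImplicit false
set_option linter.unusedSectionVars false

namespace Cfsg.Agent.OddCyclic.EmptyY.FAbs

open Subgroup Cfsg.Agent.OddCyclic.T1Module Cfsg.Agent.OddCyclic.FFBasic Cfsg.Agent.OddCyclic.FFRed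
  Cfsg.Agent.OddCyclic.FFSl2 Cfsg.Agent.OddCyclic.T1Defs Cfsg.Agent.OddCyclic.EmptyY.Blk Cfsg.Agent.OddCyclic.EmptyY.Loc
  Cfsg.Agent.OddCyclic.FFOuter Matrix
open Cfsg.Agent.OddCyclic.PumpMain (KZero)

variable {Γ : Type*} [Group Γ] {V : Type*} [CommGroup V] {ρ : Γ →* MulAut V} {K B : Subgroup Γ} {l : Subgroup V}

theorem card_le_index {A C : Subgroup V} [Finite V] (h : A ⊓ C = ⊥) : Nat.card A ≤ C.index := by
  have h1 : C.relIndex A = Nat.card A := by
    rw [← inf_relIndex_right, inf_comm, h, relIndex_bot_left]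
  rw [← h1]
  exact Nat.le_of_dvd (Nat.pos_of_ne_zero index_ne_zero_of_finite) (relIndex_dvd_index_of_normal C A)

/-- an element of `Γ` acting nontrivially moves a conjugate of `l` -/
theorem card_le [Finite V] (h : Blk ρ K B l) (ti : ∀ g, ∀ v ∈ l, v ≠ 1 → ρ g v ∈ l → g ∈ st ρ l) {a : Γ}
    (ha : ∃ v, ρ a v ≠ v) : Nat.card l ≤ (fx ρ a).index := by
  obtain ⟨g, v, hv, hgv⟩ : ∃ g, ∃ v ∈ l, ρ a (ρ g v) ≠ ρ g v := by
    by_contra hcon
    push Not at hcon
    obtain ⟨v, hv⟩ := ha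
    have h1 := h.gen (fx ρ a) fun g _ v hv => hcon g v hv
    have h2 : v ∈ fx ρ a := by rw [h1]; trivial
    exact hv h2
  have h1 : (l.map (ρ g : V ≃* V).toMonoidHom) ⊓ fx ρ a = ⊥ := by
    rw [eq_bot_iff]
    rintro _ ⟨⟨w, hw, rfl⟩, hw2⟩
    rw [mem_bot]
    by_contra hne
    have hw1 : w ≠ 1 := by
      rintro rfl
      exact hne (map_one (ρ g))
    have hw3 : ρ a (ρ g w) = ρ g w := hw2
    have h2 : ρ (g⁻¹ * a * g) w = w := by
      rw [map_mul, map_mul, MulAut.mul_apply, MulAut.mul_apply, hw3, ← MulAut.mul_apply, ← map_mul, inv_mul_cancel,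
        map_one, MulAut.one_apply]
    have h3 := ti (g⁻¹ * a * g) w hw hw1 (by rw [h2]; exact hw) v hv
    apply hgv
    have h4 : a * g = g * (g⁻¹ * a * g) := by group
    rw [← MulAut.mul_apply, ← map_mul, h4, map_mul, MulAut.mul_apply, h3]
  have h2 : Nat.card (l.map (ρ g : V ≃* V).toMonoidHom) = Nat.card l :=
    Subgroup.card_map_of_injective (ρ g).injective
  rw [← h2]
  exact card_le_index h1

/-- **(F)** -/
theorem false_of [Finite Γ] [Finite V] (hc : OddCyc Γ) (hV : ∀ v : V, v * v = 1) (hρ : Function.Injective ρ)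
    (h : Blk ρ K B l) (hK : KZero K) (hl : 4 ≤ Nat.card l)
    (ti : ∀ g, ∀ v ∈ l, v ≠ 1 → ρ g v ∈ l → g ∈ st ρ l)
    (hP : ∀ g ∈ K, (∀ b ∈ B, ∀ v ∈ l, ρ b (ρ g v) = ρ g v) → g ∈ st ρ l)
    (hS : ∃ P : Subgroup Γ, P ≤ K ∧ IsPGroup 2 P ∧ ¬ 2 ∣ P.relIndex K ∧ B ≤ normalizer (P : Set Γ) ∧ P ≤ st ρ l)
    (AA : Set (Subgroup Γ)) (hAB : ∀ A ∈ AA, A ≤ B) (hsq : ∀ A ∈ AA, ∀ a ∈ A, a * a = 1)
    (hoff : ∀ A ∈ AA, (CS ρ A).index ≤ Nat.card A) (hgen : B ≤ sSup AA) (hB : B ≠ ⊥) (hKl : ¬ K ≤ st ρ l) :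
    False := by
  have hn := h.normal
  have : Fact (Nat.Prime 2) := ⟨Nat.prime_two⟩
  have hne : ∀ a : Γ, a ≠ 1 → ∃ v, ρ a v ≠ v := by
    intro a ha
    by_contra hcon
    push Not at hcon
    apply ha
    apply hρ
    rw [map_one]
    ext v
    exact hcon v
  have h4 : ∀ a : Γ, a ≠ 1 → 4 ≤ (fx ρ a).index := fun a ha => hl.trans (card_le h ti (hne a ha))
  obtain ⟨P, hPK, hP2, hPi, hBP, hPl⟩ := hS
  -- 2-subgroups of `K` normalising `P`
  have hle : ∀ A : Subgroup Γ, A ≤ K → IsPGroup 2 A → A ≤ normalizer (P : Set Γ) → A ≤ P := by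
    intro A hAK hA hAn
    have h1 : IsPGroup 2 (A ⊔ P : Subgroup Γ) := IsPGroup.to_sup_of_normal_right' hA hP2 hAn
    have h2 : P.relIndex (A ⊔ P) ∣ P.relIndex K := by
      rw [← relIndex_mul_relIndex P (A ⊔ P) K le_sup_right (sup_le hAK hPK)]
      exact Dvd.intro _ rfl
    obtain ⟨n, hn'⟩ := h1.index (P.subgroupOf (A ⊔ P))
    have h3 : (P.subgroupOf (A ⊔ P)).index = P.relIndex (A ⊔ P) := rfl
    rw [h3] at hn'
    rw [hn'] at h2
    have h4 : n = 0 := by
      rcases Nat.eq_zero_or_pos n with h0 | h0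
      · exact h0
      · exact absurd ((dvd_pow_self 2 h0.ne').trans h2) hPi
    rw [h4, pow_zero, relIndex_eq_one] at hn'
    exact le_sup_left.trans hn'
  have hsq2 : ∀ A : Subgroup Γ, (∀ a ∈ A, a * a = 1) → IsPGroup 2 A := fun A hA a => ⟨1, by
    rw [pow_one, pow_two]; exact Subtype.ext (hA a a.2)⟩
  obtain ⟨A, hA, hA1⟩ : ∃ A ∈ AA, A ≠ ⊥ := by
    by_contra hcon
    push Not at hcon
    exact hB (eq_bot_iff.2 (hgen.trans (sSup_le fun A hA => (hcon A hA).le)))
  -- all offenders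
  have key : ∀ A ∈ AA, A ≠ ⊥ → BO ρ A ∧ (CS ρ A).index = Nat.card A ∧ (Lin ρ K A ∨ FFThree.L32 K) ∧ A ≤ P := by
    intro A hA hA1
    obtain ⟨h1, h2, h3⟩ := Off.off hc hV hρ h hK h4 (hsq A hA) hA1 (hoff A hA)
    have hAK : A ≤ K := by
      rcases h3 with ⟨F, _, _, _, e, -, -, U, rfl⟩ | h3
      · rintro _ ⟨x, -, rfl⟩
        exact (e x).2
      · exact h3.1
    refine ⟨h1, h2, h3.imp_right And.right, hle A hAK (hsq2 A (hsq A hA)) ((hAB A hA).trans hBP)⟩
  have hBP' : B ≤ P := by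
    refine hgen.trans (sSup_le fun A hA => ?_)
    by_cases hA1 : A = ⊥
    · rw [hA1]; exact bot_le
    · exact (key A hA hA1).2.2.2
  -- normalisers of `B` in `K`
  have hnB : ∀ g ∈ K, g ∈ normalizer (B : Set Γ) → g ∈ st ρ l := by
    intro g hg hgB
    refine hP g hg fun b hb v hv => ?_
    have h1 : g⁻¹ * b * g ∈ B := by
      have := (mem_normalizer_iff.1 (inv_mem hgB) b).1 hb
      rwa [inv_inv] at this
    have h2 : b * g = g * (g⁻¹ * b * g) := by group
    rw [← MulAut.mul_apply, ← map_mul, h2, map_mul, MulAut.mul_apply, h.Bfix _ h1 v hv]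
  obtain ⟨hbo, hidx, hres, hAP⟩ := key A hA hA1
  by_cases h32 : FFThree.L32 K
  · -- `L₃(2)`
    set σ : K →* MulAut V := ρ.comp K.subtype with hσ
    have hinj : Function.Injective K.subtype := K.subtype_injective
    have hmod : FFThree.Mod σ := ⟨h32, hV, fun y hy => hne y (fun h1 => hy (Subtype.ext h1))⟩
    have hr : ∀ A : Subgroup Γ, A ≤ K → A ≤ K.subtype.range := fun A hA => by rwa [Subgroup.range_subtype]
    have hbo' : ∀ A : Subgroup Γ, A ≤ K → BO ρ A → BO σ (A.subgroupOf K) := fun A hAK hA =>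
      FFLoc.bo_comap hA hinj (hr A hAK)
    have hne' : ∀ A : Subgroup Γ, A ≤ K → A ≠ ⊥ → A.subgroupOf K ≠ ⊥ := fun A hAK hA =>
      FFLoc.comap_ne_bot hA (hr A hAK)
    have h4' : ∀ a : K, a ≠ 1 → a * a = 1 → (fx σ a).index = 4 := by
      rcases FFThree.main hmod (hbo' A (hAP.trans hPK) hbo) (hne' A (hAP.trans hPK) hA1) with h1 | h1
      · exfalso
        obtain ⟨p, q, hpq⟩ := h32.four
        have h2 := h1.inv p hpq.a1 hpq.aa
        have h3 := h4 p (fun h3 => hpq.a1 (Subtype.ext h3))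
        have h5 : (fx ρ (p : Γ)).index = (fx σ p).index := rfl
        omega
      · exact h1.1
    have hPi' : ¬ 2 ∣ (P.subgroupOf K).index := hPi
    have hP2' : IsPGroup 2 (P.subgroupOf K) := hP2.comap_of_injective K.subtype hinj
    let T : Sylow 2 K := hP2'.toSylow hPi'
    have hT : (T : Subgroup K) = P.subgroupOf K := rfl
    have hleT : ∀ A : Subgroup Γ, A ≤ P → A.subgroupOf K ≤ T := fun A hA => comap_mono hA
    -- `B = A`
    have hAB' : B = A := by
      apply le_antisymm _ (hAB A hA)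
      refine hgen.trans (sSup_le fun A' hA' => ?_)
      by_cases hA1' : A' = ⊥
      · rw [hA1']; exact bot_le
      · obtain ⟨hbo2, -, -, hAP2⟩ := key A' hA' hA1'
        have h1 := FFThree.unique hmod h4' T (hbo' A' (hAP2.trans hPK) hbo2) (hne' A' (hAP2.trans hPK) hA1')
          (hleT A' hAP2) (hbo' A (hAP.trans hPK) hbo) (hne' A (hAP.trans hPK) hA1) (hleT A hAP)
        have h2 := congrArg (Subgroup.map K.subtype) h1
        rw [map_subgroupOf_eq_of_le (hAP2.trans hPK), map_subgroupOf_eq_of_le (hAP.trans hPK)] at h2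
        rw [h2]
    obtain ⟨hfour, hfix⟩ : FFThree.IsFour (A.subgroupOf K) ∧
        ∀ a ∈ A.subgroupOf K, a ≠ 1 → fx σ a = CS σ (A.subgroupOf K) := by
      rcases FFThree.main hmod (hbo' A (hAP.trans hPK) hbo) (hne' A (hAP.trans hPK) hA1) with h1 | h1
      · exfalso
        obtain ⟨p, q, hpq⟩ := h32.four
        have h2 := h1.inv p hpq.a1 hpq.aa
        rw [h4' p hpq.a1 hpq.aa] at h2
        omega
      · exact h1.2
    obtain ⟨B₂, hpar⟩ := FFThree.par h32 T hfour (hleT A hAP) hfix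
    apply hKl
    have h1 : (⊤ : Subgroup K) ≤ (st ρ l).subgroupOf K := by
      rw [← hpar.gen]
      refine sup_le ?_ ?_
      · intro x hx
        rw [mem_subgroupOf]
        refine hnB x x.2 ?_
        rw [hAB', mem_normalizer_iff]
        intro y
        have hx' := mem_normalizer_iff.1 hx
        constructor
        · intro hy
          exact (hx' ⟨y, hPK (hAP hy)⟩).1 (mem_subgroupOf.2 hy)
        · intro hy
          have hyK : y ∈ K := by
            have h2 := hPK (hAP hy)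
            have h3 := mul_mem (mul_mem (inv_mem x.2) h2) x.2
            have h5 : (x : Γ)⁻¹ * (x * y * (x : Γ)⁻¹) * x = y := by group
            rwa [h5] at h3
          exact mem_subgroupOf.1 ((hx' ⟨y, hyK⟩).2 (mem_subgroupOf.2 hy))
      · intro x hx
        rw [mem_subgroupOf]
        intro v hv
        have h2 : v ∈ CS σ (T : Subgroup K) := by
          intro p hp
          rw [hT, mem_subgroupOf] at hp
          exact hPl hp v hv
        exact hpar.cent x hx v h2
    intro k hk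
    exact mem_subgroupOf.1 (h1 (mem_top (⟨k, hk⟩ : K)))
  · have hlin := hres.resolve_right h32
    obtain ⟨F, _, _, _, e, hF, hN, U, hAU⟩ := hlin
    set j : SpecialLinearGroup (Fin 2) F →* Γ := K.subtype.comp e.toMonoidHom with hj
    have hjK : ∀ x, j x ∈ K := fun x => (e x).2
    -- `B = A`
    have hAB' : B = A := by
      apply le_antisymm _ (hAB A hA)
      have hinj : Function.Injective j := K.subtype_injective.comp e.injective
      have h1 : (U : Subgroup (SpecialLinearGroup (Fin 2) F)) ≤ P.comap j := by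
        rw [← map_le_iff_le_comap, ← hAU]
        exact hAP
      have h2 := U.is_maximal' (hP2.comap_of_injective j hinj) h1
      have h3 : P ≤ A := by
        intro x hx
        obtain ⟨y, hy⟩ := e.surjective ⟨x, hPK hx⟩
        have h4 : j y = x := congrArg Subtype.val hy
        rw [hAU, ← h4]
        refine mem_map_of_mem j ?_
        rw [← h2, mem_comap, h4]
        exact hx
      exact hBP'.trans h3
    apply hKl
    have h1 : ∀ v ∈ l, v ∈ CS (rr ρ e) ⊤ := by
      intro v hv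
      refine Nat.fixed hF hN U fun g hg => ?_
      refine hnB (j g) (hjK g) ?_ v hv
      rw [hAB', hAU]
      exact le_normalizer_map j (mem_map_of_mem j (Sylow.smul_eq_iff_mem_normalizer.1 hg))
    intro k hk v hv
    have h2 := h1 v hv (e.symm ⟨k, hk⟩) (mem_top _)
    have h3 : rr ρ e (e.symm ⟨k, hk⟩) = ρ k := by
      change ρ (e (e.symm ⟨k, hk⟩) : K) = ρ k
      rw [e.apply_symm_apply]
    rwa [h3] at h2

end Cfsg.Agent.OddCyclic.EmptyY.FAbs
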