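import Cfsg.Agent.OddCyclic.EmptyY.FAbs

/-!
# The abstract form of (3.3), (3.4)

`Γ = K B` acts faithfully on `V` (generated by the conjugates of `l`) and on `N` (generated by the conjugates of `m`),
`Φ : V → N^κ` is a surjective homomorphism of `Γ`-modules, `|l| = 2^κ`, `B` elementary abelian:
`|B|^κ ≤ |V : C_V(B)|`.
-/

set_option autoImplicit false
set_option linter.unusedSectionVars false

namespace Cfsg.Agent.OddCyclic.EmptyY.GAbs

open Subgroup Cfsg.Agent.OddCyclic.T1Module Cfsg.Agent.OddCyclic.FFBasic Cfsg.Agent.OddCyclic.FFRed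
  Cfsg.Agent.OddCyclic.FFSl2 Cfsg.Agent.OddCyclic.T1Defs Cfsg.Agent.OddCyclic.EmptyY.Blk Cfsg.Agent.OddCyclic.EmptyY.Loc
open Cfsg.Agent.OddCyclic.PumpMain (KZero)
open Cfsg.Agent.GH.L2Aut (Four)

variable {Γ : Type*} [Group Γ] [Finite Γ]

section no

variable {N : Type*} [CommGroup N] [Finite N] {σ : Γ →* MulAut N} {K B : Subgroup Γ} {m : Subgroup N}

theorem index_ne_one (hσ : Function.Injective σ) {A : Subgroup Γ} (hA : A ≠ ⊥) : (CS σ A).index ≠ 1 := by
  intro h
  rw [index_eq_one] at h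
  apply hA
  rw [eq_bot_iff]
  intro a ha
  rw [mem_bot]
  apply hσ
  rw [map_one]
  ext v
  have h1 : v ∈ CS σ A := by rw [h]; trivial
  exact h1 a ha

/-- (NO) -/
theorem no (hc : OddCyc Γ) (hN : ∀ v : N, v * v = 1) (hσ : Function.Injective σ) (h : Blk σ K B m) (hK : KZero K)
    (hsq : ∀ b ∈ B, b * b = 1) : Nat.card B ≤ (CS σ B).index ∨
      (B ≤ K ∧ FFThree.L32 K ∧ Nat.card B = 4 ∧ (CS σ B).index = 2) := by
  have hn := h.normal
  have : Fact (Nat.Prime 2) := ⟨Nat.prime_two⟩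
  by_contra hcon
  rw [not_or, not_le] at hcon
  obtain ⟨hlt, hno⟩ := hcon
  have hpos : ∀ A : Subgroup Γ, 0 < Nat.card (CS σ A) := fun A => Nat.card_pos
  have hB1 : B ≠ ⊥ := by
    rintro rfl
    rw [Subgroup.card_bot] at hlt
    have : (CS σ (⊥ : Subgroup Γ)).index ≠ 0 := index_ne_zero_of_finite
    omega
  have hpow2 : ∀ A : Subgroup Γ, A ≤ B → ∃ n, Nat.card A = 2 ^ n := by
    intro A hA
    exact IsPGroup.iff_card.1 (h.two.to_le hA)
  have key : ∀ A : Subgroup Γ, A ≤ B → BO σ A → A ≠ ⊥ → (CS σ A).index < Nat.card A →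
      A ≤ K ∧ FFThree.L32 K ∧ Nat.card A = 4 ∧ (CS σ A).index = 2 := by
    intro A hAB hA hA1 hlt
    rcases loc hc hN hK (h.fr hσ hA hA1) with h1 | ⟨h1, -⟩ | ⟨h1, h2⟩
    · rw [h1.card_eq] at hlt
      omega
    · omega
    · have h3 := Off.card_le_four_sub hA.sq h1 h2
      obtain ⟨d, hd⟩ := index_pow hN (CS σ A)
      obtain ⟨n, hn'⟩ := hpow2 A hAB
      have h4 := index_ne_one hσ hA1
      have hd0 : d ≠ 0 := by
        rintro rfl
        exact h4 (by rw [hd, pow_zero])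
      rw [hd, hn'] at hlt
      have h5 : d < n := (Nat.pow_lt_pow_iff_right (by norm_num)).1 hlt
      have h6 : n ≤ 2 := by
        rw [hn'] at h3
        exact (Nat.pow_le_pow_iff_right (by norm_num)).1 (show 2 ^ n ≤ 2 ^ 2 by omega)
      have hd1 : d = 1 := by omega
      have hn1 : n = 2 := by omega
      subst hd1 hn1
      exact ⟨h1, h2, by rw [hn']; norm_num, by rw [hd]; norm_num⟩
  obtain ⟨A', hA'B, hA'1, hmax⟩ := Off.exists_max (ρ := σ) hB1
  have e1 := Off.card_CS_mul (ρ := σ) B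
  have h1 : Nat.card N < Nat.card B * Nat.card (CS σ B) := by
    rw [← e1, mul_comm]
    exact Nat.mul_lt_mul_of_pos_right hlt (hpos B)
  have h2 := hmax B le_rfl hB1
  have hbo' := Off.bo_of hsq hA'B hmax (h1.le.trans h2)
  have e2 := Off.card_CS_mul (ρ := σ) A'
  have hlt' : (CS σ A').index < Nat.card A' := by
    apply Nat.lt_of_mul_lt_mul_left (a := Nat.card (CS σ A'))
    rw [e2, mul_comm]
    exact h1.trans_le h2
  obtain ⟨-, -, c1, c2⟩ := key A' hA'B hbo' hA'1 hlt'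
  -- `B` is a maximizer
  obtain ⟨d, hd⟩ := index_pow hN (CS σ B)
  obtain ⟨n, hn'⟩ := hpow2 B le_rfl
  have h5 : d < n := by
    rw [hd, hn'] at hlt
    exact (Nat.pow_lt_pow_iff_right (by norm_num)).1 hlt
  have h6 : 2 * (CS σ B).index ≤ Nat.card B := by
    rw [hd, hn']
    calc 2 * 2 ^ d = 2 ^ (d + 1) := by rw [pow_succ]; ring
      _ ≤ 2 ^ n := Nat.pow_le_pow_right (by norm_num) h5
  have h7 : Nat.card A' * Nat.card (CS σ A') ≤ Nat.card B * Nat.card (CS σ B) := by
    rw [c2] at e2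
    rw [c1]
    calc 4 * Nat.card (CS σ A') = 2 * Nat.card N := by rw [← e2]; ring
      _ = (2 * (CS σ B).index) * Nat.card (CS σ B) := by rw [← e1]; ring
      _ ≤ _ := Nat.mul_le_mul_right _ h6
  have hbo : BO σ B := Off.bo_of hsq le_rfl (fun C hC hC1 => (hmax C hC hC1).trans h7) h1.le
  exact hno (key B le_rfl hbo hB1 hlt)

end no

/-- the element of order 3 inverted by `a ∈ A` and normalising the other four-group -/
theorem partner {L : Type*} [Group L] [Finite L] (h : FFThree.L32 L) (T : Sylow 2 L) {A : Subgroup L}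
    (hA : FFThree.IsFour A) (hAT : A ≤ T) :
    ∃ z a b x : L, ∃ hza : Four z a, ∃ hzb : Four z b, A = hza.sub ∧ hzb.sub ≤ T ∧ A ⊔ hzb.sub = T ∧
      a * b * a⁻¹ = z * b ∧ x * x * x = 1 ∧ x * z * x⁻¹ = b ∧ x * b * x⁻¹ = z * b ∧ a * x * a⁻¹ = x⁻¹ := by
  obtain ⟨z, a, b, hza, hzb, hAe, hBT, hab, -, hsup, -, -⟩ := FFThree.exists_other h T hA hAT
  obtain ⟨y, hy3, hy1, hy2⟩ := h.fuse z b hzb
  have haa := hza.bb
  have hzz := hza.aa
  have hbb := hzb.bb
  have ha : a⁻¹ = a := inv_eq_of_mul_eq_one_left haa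
  have hz : z⁻¹ = z := inv_eq_of_mul_eq_one_left hzz
  have hb : b⁻¹ = b := inv_eq_of_mul_eq_one_left hbb
  have haz : a * z * a⁻¹ = z := by rw [← hza.comm, mul_inv_cancel_right]
  have hazb : a * (z * b) * a⁻¹ = b := by
    calc a * (z * b) * a⁻¹ = (a * z * a⁻¹) * (a * b * a⁻¹) := by group
      _ = z * (z * b) := by rw [haz, hab]
      _ = b := by rw [← mul_assoc, hzz, one_mul]
  have hyzb : y * (z * b) * y⁻¹ = z := by
    calc y * (z * b) * y⁻¹ = (y * z * y⁻¹) * (y * b * y⁻¹) := by group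
      _ = b * (z * b) := by rw [hy1, hy2]
      _ = z := by rw [hzb.comm, ← mul_assoc, hbb, one_mul]
  -- the inverse of `y`
  have hy1' : y⁻¹ * b * y = z := by rw [← hy1]; group
  have hy2' : y⁻¹ * (z * b) * y = b := by rw [← hy2]; group
  have hyz' : y⁻¹ * z * y = z * b := by
    calc y⁻¹ * z * y = y⁻¹ * (y * (z * b) * y⁻¹) * y := by rw [hyzb]
      _ = z * b := by group
  set x := a * (y * a * y⁻¹) with hx
  have hxz : x * z * x⁻¹ = b := by
    calc x * z * x⁻¹ = a * (y * (a * (y⁻¹ * z * y) * a⁻¹) * y⁻¹) * a⁻¹ := by rw [hx]; group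
      _ = b := by rw [hyz', hazb, hy2, hazb]
  have hxb : x * b * x⁻¹ = z * b := by
    calc x * b * x⁻¹ = a * (y * (a * (y⁻¹ * b * y) * a⁻¹) * y⁻¹) * a⁻¹ := by rw [hx]; group
      _ = z * b := by rw [hy1', haz, hy1, hab]
  have hxzb : x * (z * b) * x⁻¹ = z := by
    calc x * (z * b) * x⁻¹ = (x * z * x⁻¹) * (x * b * x⁻¹) := by group
      _ = b * (z * b) := by rw [hxz, hxb]
      _ = z := by rw [hzb.comm, ← mul_assoc, hbb, one_mul]
  have hx3z : (x * x * x) * z = z * (x * x * x) := by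
    have : (x * x * x) * z * (x * x * x)⁻¹ = z := by
      calc (x * x * x) * z * (x * x * x)⁻¹ = x * (x * (x * z * x⁻¹) * x⁻¹) * x⁻¹ := by group
        _ = z := by rw [hxz, hxb, hxzb]
    calc (x * x * x) * z = ((x * x * x) * z * (x * x * x)⁻¹) * (x * x * x) := by group
      _ = _ := by rw [this]
  have hx3b : (x * x * x) * b = b * (x * x * x) := by
    have : (x * x * x) * b * (x * x * x)⁻¹ = b := by
      calc (x * x * x) * b * (x * x * x)⁻¹ = x * (x * (x * b * x⁻¹) * x⁻¹) * x⁻¹ := by group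
        _ = b := by rw [hxb, hxzb, hxz]
    calc (x * x * x) * b = ((x * x * x) * b * (x * x * x)⁻¹) * (x * x * x) := by group
      _ = _ := by rw [this]
  have hcx : x * (x * x * x) * x⁻¹ = x * x * x := by group
  refine ⟨z, a, b, x, hza, hzb, hAe, hBT, hsup, hab, ?_, hxz, hxb, ?_⟩
  · rcases h.cent z b (x * x * x) hzb hx3z hx3b with h1 | h1 | h1 | h1
    · exact h1
    · exfalso
      rw [h1, hxz] at hcx
      exact hzb.ne hcx.symm
    · exfalso
      rw [h1, hxb] at hcx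
      exact hzb.a1 (mul_eq_right.1 hcx)
    · exfalso
      rw [h1, hxzb] at hcx
      exact hzb.b1 (mul_eq_left.1 hcx.symm)
  · calc a * x * a⁻¹ = (a * a) * (y * a * y⁻¹) * a⁻¹ := by rw [hx]; group
      _ = (y * a * y⁻¹) * a := by rw [haa, one_mul, ha]
      _ = (y * a⁻¹ * y⁻¹) * a⁻¹ := by rw [ha]
      _ = x⁻¹ := by rw [hx]; group

/-! ### the module with the map to `N^κ` -/

section main

variable {V N : Type*} [CommGroup V] [Finite V] [CommGroup N] [Finite N] {ρ : Γ →* MulAut V} {σ : Γ →* MulAut N}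
  {K B : Subgroup Γ} {l : Subgroup V} {m : Subgroup N} {κ : ℕ} {Φ : V →* (Fin κ → N)}

theorem index_pi (C : Subgroup N) (κ : ℕ) :
    (Subgroup.pi Set.univ (fun _ : Fin κ => C)).index = C.index ^ κ := by
  set D := Subgroup.pi Set.univ (fun _ : Fin κ => C) with hD
  have h1 : Nat.card D = Nat.card C ^ κ := by
    have e : D ≃ (Fin κ → C) :=
      { toFun := fun f i => ⟨f.1 i, f.2 i (Set.mem_univ i)⟩
        invFun := fun f => ⟨fun i => f i, fun i _ => (f i).2⟩
        left_inv := fun f => rfl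
        right_inv := fun f => rfl }
    rw [Nat.card_congr e, Nat.card_pi, Finset.prod_const, Finset.card_univ, Fintype.card_fin]
  have h2 : Nat.card (Fin κ → N) = Nat.card N ^ κ := by
    rw [Nat.card_pi, Finset.prod_const, Finset.card_univ, Fintype.card_fin]
  have h3 := D.card_mul_index
  rw [h1, h2, ← C.card_mul_index, mul_pow] at h3
  exact Nat.eq_of_mul_eq_mul_left (pow_pos Nat.card_pos κ) h3

theorem le_comap (heq : ∀ g v i, Φ (ρ g v) i = σ g (Φ v i)) (B : Subgroup Γ) :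
    CS ρ B ≤ (Subgroup.pi Set.univ (fun _ : Fin κ => CS σ B)).comap Φ := by
  intro v hv i _ b hb
  rw [← heq, hv b hb]

theorem index_le (hΦ : Function.Surjective Φ) (heq : ∀ g v i, Φ (ρ g v) i = σ g (Φ v i)) (B : Subgroup Γ) :
    (CS σ B).index ^ κ ≤ (CS ρ B).index := by
  rw [← index_pi, ← index_comap_of_surjective _ hΦ]
  exact index_le_of_le (le_comap heq B)

/-- **(3.3), (3.4)** -/
theorem main (hc : OddCyc Γ) (hV : ∀ v : V, v * v = 1) (hN : ∀ v : N, v * v = 1) (hρ : Function.Injective ρ)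
    (hσ : Function.Injective σ) (h : Blk ρ K B l) (h' : Blk σ K B m) (hK : KZero K) (hsq : ∀ b ∈ B, b * b = 1)
    (hl : Nat.card l = 2 ^ κ) (ti : ∀ g, ∀ v ∈ l, v ≠ 1 → ρ g v ∈ l → g ∈ st ρ l) (hlm : st ρ l ≤ st σ m)
    (hT : ∃ T : Subgroup Γ, IsPGroup 2 T ∧ B ≤ T ∧ ∀ g ∈ K, g ∈ st ρ l → g ∈ normalizer (T : Set Γ))
    (hΦ : Function.Surjective Φ) (heq : ∀ g v i, Φ (ρ g v) i = σ g (Φ v i)) (hΦl : ∀ v ∈ l, ∀ i, Φ v i ∈ m) :
    Nat.card B ^ κ ≤ (CS ρ B).index := by
  have hn := h.normal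
  have : Fact (Nat.Prime 2) := ⟨Nat.prime_two⟩
  rcases no hc hN hσ h' hK hsq with h1 | ⟨hBK, h32, hB4, hi2⟩
  · exact (Nat.pow_le_pow_left h1 κ).trans (index_le hΦ heq B)
  -- `L₃(2)`
  set σ' : K →* MulAut N := σ.comp K.subtype with hσ'
  have hinj : Function.Injective K.subtype := K.subtype_injective
  set B' : Subgroup K := B.subgroupOf K with hB'
  have hcard : Nat.card B' = 4 := by rw [Nat.card_congr (subgroupOfEquivOfLe hBK).toEquiv, hB4]
  have hfour : FFThree.IsFour B' := ⟨hcard, fun b hb => Subtype.ext (hsq b hb)⟩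
  have hCS : CS σ' B' = CS σ B := by
    rw [hσ', FFLoc.CS_comp, map_subgroupOf_eq_of_le hBK]
  have hne : ∀ y : K, y ≠ 1 → ∃ v, σ' y v ≠ v := by
    intro y hy
    by_contra hcon
    push Not at hcon
    apply hy
    apply hinj
    apply hσ
    rw [map_one, map_one]
    ext v
    exact hcon v
  have hmod : FFThree.Mod σ' := ⟨h32, hN, hne⟩
  have hfix : ∀ a ∈ B', a ≠ 1 → fx σ' a = CS σ' B' := by
    intro a ha ha1
    symm
    apply eq_of_index_le (CS_le_fx ha)
    rw [hCS, hi2]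
    exact hmod.two_le ha1
  -- a Sylow 2-subgroup of `K` between `B` and the stabiliser of `l`
  set E' : Subgroup K := (st ρ l).subgroupOf K with hE'
  have hBE : B' ≤ E' := fun b hb => mem_subgroupOf.2 fun v hv => h.Bfix b hb v hv
  have hEodd : ¬ 2 ∣ E'.index := by
    obtain ⟨P, hPK, hP, hPl⟩ := h.syl
    intro h2
    apply hP
    have h3 : (st ρ l ⊓ K).relIndex K = E'.index := by rw [inf_relIndex_right]; rfl
    rw [← h3] at h2
    exact h2.trans (relIndex_dvd_of_le_left K (le_inf (fun p hp => hPl p hp) hPK))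
  have hB2 : IsPGroup 2 B' := fun b => ⟨1, by
    rw [pow_one, pow_two]; exact Subtype.ext (hfour.sq b b.2)⟩
  obtain ⟨T, hBT, hTE⟩ : ∃ T : Sylow 2 K, B' ≤ T ∧ (T : Subgroup K) ≤ E' := by
    obtain ⟨S₀, hS₀⟩ := (hB2.comap_of_injective E'.subtype E'.subtype_injective).exists_le_sylow
    have h2 : IsPGroup 2 ((S₀ : Subgroup E').map E'.subtype) := S₀.isPGroup'.map _
    have h3 : ¬ 2 ∣ ((S₀ : Subgroup E').map E'.subtype).index := by
      rw [index_map_subtype]
      intro h4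
      rcases (Nat.prime_two.dvd_mul).1 h4 with h5 | h5
      · exact S₀.not_dvd_index h5
      · exact hEodd h5
    refine ⟨h2.toSylow h3, ?_, map_subtype_le _⟩
    intro b hb
    exact ⟨⟨b, hBE hb⟩, hS₀ (show (⟨b, hBE hb⟩ : E') ∈ B'.comap E'.subtype from hb), rfl⟩
  obtain ⟨z, a, b, x, hza, hzb, hAe, hbT, hsup, hab, hx3, hxz, hxb, hax⟩ := partner h32 T hfour hBT
  have hzB : z ∈ B' := by rw [hAe]; exact Or.inr (Or.inl rfl)
  have haB : a ∈ B' := by rw [hAe]; exact Or.inr (Or.inr (Or.inl rfl))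
  have hbE : b ∈ E' := hTE (hbT (Or.inr (Or.inr (Or.inl rfl))))
  have hbz : b * z = z * b := hzb.comm.symm
  -- `x` fixes `m`
  have hxm : ∀ v ∈ m, σ (x : Γ) v = v := by
    intro v hv
    have e1 := hfix z hzB hza.a1
    have e2 := hfix a haB hza.b1
    have hle : fx σ' z ≤ fx σ' a := by rw [e1, e2]
    have hvs : ∀ t ∈ E', v ∈ fx σ' t := fun t ht => hlm (mem_subgroupOf.1 ht) v hv
    refine FFThree.par_core h32 hza hzb hab hle (hvs z (hBE hzB)) (hvs b hbE) (x := x) ?_ ?_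
    · rw [hxz]; exact Or.inr (Or.inr (Or.inl rfl))
    · rw [hxb]; exact Or.inr (Or.inr (Or.inr rfl))
  -- `x` moves `l`
  have hxl : (x : Γ) ∉ st ρ l := by
    intro hxl
    obtain ⟨T', hT'2, hBT', hnT'⟩ := hT
    set T₁ : Subgroup K := T'.subgroupOf K with hT₁
    have h2 : IsPGroup 2 T₁ := hT'2.comap_of_injective _ hinj
    have h3 : (T : Subgroup K) ≤ normalizer (T₁ : Set K) := by
      intro t ht
      have h4 := hnT' t t.2 (mem_subgroupOf.1 (hTE ht))
      rw [mem_normalizer_iff] at h4 ⊢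
      intro y
      exact h4 y
    have h4 : IsPGroup 2 ((T : Subgroup K) ⊔ T₁ : Subgroup K) := IsPGroup.to_sup_of_normal_right' T.isPGroup' h2 h3
    have h5 := T.is_maximal' h4 le_sup_left
    have h6 : T₁ ≤ T := by rw [← h5]; exact le_sup_right
    have hB'T₁ : B' ≤ T₁ := comap_mono hBT'
    have hxn := hnT' x x.2 hxl
    have hxn' : ∀ y : K, y ∈ T₁ → x * y * x⁻¹ ∈ T₁ := fun y hy => (mem_normalizer_iff.1 hxn y).1 hy
    have hbT₁ : b ∈ T₁ := by rw [← hxz]; exact hxn' z (hB'T₁ hzB)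
    have h7 : T₁ = T := by
      apply le_antisymm h6
      rw [← hsup]
      refine sup_le hB'T₁ ?_
      rintro y (rfl | rfl | rfl | rfl)
      · exact one_mem _
      · exact hB'T₁ hzB
      · exact hbT₁
      · exact mul_mem (hB'T₁ hzB) hbT₁
    -- `z` is central in `T`
    have h8 : (T : Subgroup K) ≤ centralizer ({z} : Set K) := by
      rw [← hsup]
      refine sup_le ?_ ?_
      · intro y hy
        exact mem_centralizer_singleton_iff.2 (comm_of_sq hfour.sq hy hzB)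
      · rintro y (rfl | rfl | rfl | rfl)
        · exact one_mem _
        · exact mem_centralizer_singleton_iff.2 rfl
        · exact mem_centralizer_singleton_iff.2 hbz
        · exact mem_centralizer_singleton_iff.2 (by rw [mul_assoc, hbz])
    have haT : a ∈ T₁ := hB'T₁ haB
    -- `b = z^x` is central in `T`
    have h9 : x⁻¹ * a * x ∈ T₁ := by
      have h10 := hxn' _ (hxn' a haT)
      have hxx : x * x = x⁻¹ := eq_inv_of_mul_eq_one_left hx3
      have h11 : x * (x * a * x⁻¹) * x⁻¹ = x⁻¹ * a * x := by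
        calc x * (x * a * x⁻¹) * x⁻¹ = (x * x) * a * (x * x)⁻¹ := by group
          _ = x⁻¹ * a * x := by rw [hxx, inv_inv]
      rwa [h11] at h10
    have h10 := mem_centralizer_singleton_iff.1 (h8 (h6 h9))
    have h11 : a * b = b * a := by
      rw [← hxz]
      calc a * (x * z * x⁻¹) = x * (x⁻¹ * a * x * z) * x⁻¹ := by group
        _ = x * (z * (x⁻¹ * a * x)) * x⁻¹ := by rw [h10]
        _ = x * z * x⁻¹ * a := by group
    rw [h11, mul_inv_cancel_right] at hab
    exact hzb.a1 (mul_eq_right.1 hab.symm)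
  -- the elements `v^{x²} v`
  set y : Γ := (x : Γ) with hy
  have hyyy : y * y * y = 1 := congrArg Subtype.val hx3
  let f : l →* V :=
    { toFun := fun v => ρ (y * y) v * v
      map_one' := by rw [OneMemClass.coe_one, map_one, mul_one]
      map_mul' := fun v w => by
        rw [Subgroup.coe_mul, map_mul]
        exact mul_mul_mul_comm _ _ _ _ }
  have hf : ∀ v : l, f v = ρ (y * y) v * v := fun _ => rfl
  have hf1 : ∀ v : l, f v ∈ CS ρ B → v = 1 := by
    intro v hv
    by_contra hv1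
    have hv1' : (v : V) ≠ 1 := fun h1 => hv1 (Subtype.ext h1)
    have h2 : ρ (a : Γ) (f v) = f v := hv a haB
    have h3 : ρ (a : Γ) v = v := h.Bfix _ haB v v.2
    have h4 : (a : Γ) * (y * y) = y * a := by
      have e1 : (a : Γ) * y * (a : Γ)⁻¹ = y⁻¹ := congrArg Subtype.val hax
      have e2 : y⁻¹ * y⁻¹ = y := by
        have : y⁻¹ = y * y := by
          rw [inv_eq_iff_mul_eq_one, ← mul_assoc]; exact hyyy
        nth_rewrite 1 [this]
        group
      calc (a : Γ) * (y * y) = ((a : Γ) * y * (a : Γ)⁻¹) * ((a : Γ) * y * (a : Γ)⁻¹) * a := by group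
        _ = y * a := by rw [e1, e2]
    rw [hf, map_mul, ← MulAut.mul_apply, ← map_mul, h4, map_mul, MulAut.mul_apply, h3] at h2
    have h5 := mul_right_cancel h2
    rw [map_mul, MulAut.mul_apply] at h5
    have h6 : (v : V) = ρ y v := (ρ y).injective h5
    exact hxl (ti y v v.2 hv1' (by rw [← h6]; exact v.2))
  have hf0 : f.range ≤ Φ.ker := by
    rintro _ ⟨v, rfl⟩
    rw [MonoidHom.mem_ker]
    ext i
    rw [hf, map_mul, Pi.mul_apply, heq, Pi.one_apply, map_mul, MulAut.mul_apply, hxm _ (hΦl v v.2 i),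
      hxm _ (hΦl v v.2 i), hN]
  have hfi : Function.Injective f := by
    rw [injective_iff_map_eq_one]
    intro v hv
    exact hf1 v (by rw [hv]; exact one_mem _)
  have hcf : Nat.card f.range = 2 ^ κ := by
    rw [← hl]
    exact (Nat.card_congr (MonoidHom.ofInjective hfi).toEquiv).symm
  have hinf : f.range ⊓ CS ρ B = ⊥ := by
    rw [eq_bot_iff]
    rintro _ ⟨⟨v, rfl⟩, hv⟩
    rw [mem_bot, hf1 v hv, map_one]
  -- the count
  have g1 : 2 ^ κ ≤ (CS ρ B).relIndex Φ.ker := by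
    rw [← hcf]
    have h2 : (CS ρ B).relIndex f.range = Nat.card f.range := by
      rw [← inf_relIndex_right, inf_comm, hinf, relIndex_bot_left]
    rw [← h2]
    exact relIndex_le_of_le_right hf0 index_ne_zero_of_finite
  have g2 : 2 ^ κ ≤ (CS ρ B ⊔ Φ.ker).index := by
    rw [← hi2, ← index_pi, ← index_comap_of_surjective _ hΦ]
    refine index_le_of_le (sup_le (le_comap heq B) ?_)
    intro v hv
    rw [MonoidHom.mem_ker] at hv
    rw [mem_comap, hv]
    exact one_mem _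
  rw [hB4]
  calc 4 ^ κ = 2 ^ κ * 2 ^ κ := by rw [← mul_pow]; norm_num
    _ ≤ (CS ρ B).relIndex Φ.ker * (CS ρ B ⊔ Φ.ker).index := Nat.mul_le_mul g1 g2
    _ = (CS ρ B).relIndex (CS ρ B ⊔ Φ.ker) * (CS ρ B ⊔ Φ.ker).index := by rw [sup_comm, relIndex_sup_right]
    _ = (CS ρ B).index := relIndex_mul_index le_sup_left

end main

end Cfsg.Agent.OddCyclic.EmptyY.GAbs
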