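import Cfsg.Agent.OddCyclic.FFMain
import Cfsg.Agent.OddCyclic.FFThree

/-!
# The local offender theorem with a normal simple group: precise outcomes

`loc`: `Fr ρ L A` (best offender `A` faithful on the simple normal subgroup `L`, a `KZero` group): one of
* `L ≅ SL₂(F)`, `A` a Sylow 2-subgroup of `L`, `V/C_V(L)` natural;
* `|V : C_V(A)| = |A|` and some `a ∈ A#` is a transvection;
* `A ≤ L ≅ L₃(2)`.
-/

set_option autoImplicit false
set_option linter.unusedSectionVars false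

namespace Cfsg.Agent.OddCyclic.EmptyY.Loc

open Cfsg.Agent.OddCyclic.T1Module Cfsg.Agent.OddCyclic.FFBasic Cfsg.Agent.OddCyclic.FFRed
  Cfsg.Agent.OddCyclic.FFSl2 Cfsg.Agent.OddCyclic.T1Defs Cfsg.Agent.OddCyclic.PumpMain
  Cfsg.Agent.OddCyclic.FFOuter Matrix

variable {H : Type*} [Group H] [Finite H] {V : Type*} [CommGroup V] [Finite V] {ρ : H →* MulAut V}

/-- the linear outcome -/
def Lin (ρ : H →* MulAut V) (L A : Subgroup H) : Prop :=
  ∃ (F : Type) (_ : Field F) (_ : Fintype F) (_ : CharP F 2) (e : SpecialLinearGroup (Fin 2) F ≃* L),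
    4 ≤ Fintype.card F ∧ IsNat (rr ρ e) ∧ ∃ U : Sylow 2 (SpecialLinearGroup (Fin 2) F),
      A = (U : Subgroup (SpecialLinearGroup (Fin 2) F)).map (L.subtype.comp e.toMonoidHom)

/-- the outcomes -/
def Res (ρ : H →* MulAut V) (L A : Subgroup H) : Prop :=
  Lin ρ L A ∨ ((CS ρ A).index = Nat.card A ∧ ∃ a ∈ A, a ≠ 1 ∧ (fx ρ a).index = 2) ∨ (A ≤ L ∧ FFThree.L32 L)

theorem lin {L A : Subgroup H} [L.Normal] {F : Type} [Field F] [Fintype F] [CharP F 2] (h4 : 4 ≤ Fintype.card F)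
    (e : SpecialLinearGroup (Fin 2) F ≃* L) (h : Fr ρ L A) (hV : ∀ v : V, v * v = 1) : Res ρ L A := by
  by_cases hAL : A ≤ L
  · left
    set j : SpecialLinearGroup (Fin 2) F →* H := L.subtype.comp e.toMonoidHom with hj
    have hinj : Function.Injective j := L.subtype_injective.comp e.injective
    have hrange : j.range = L := by
      ext x
      constructor
      · rintro ⟨y, rfl⟩; exact (e y).2
      · intro hx
        exact ⟨e.symm ⟨x, hx⟩, by show ((e (e.symm ⟨x, hx⟩) : L) : H) = x; rw [e.apply_symm_apply]⟩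
    have hAr : A ≤ j.range := by rw [hrange]; exact hAL
    have hne : ∃ g v, (ρ.comp j) g v ≠ v := by
      obtain ⟨⟨a, ha⟩, ha1'⟩ := Subgroup.ne_bot_iff_exists_ne_one.1 h.ne
      have ha1 : a ≠ 1 := fun h => ha1' (Subtype.ext h)
      obtain ⟨v, hv⟩ := h.faithL a (hAL ha) ha1
      obtain ⟨g, hg⟩ := hAr ha
      refine ⟨g, v, ?_⟩
      show ρ (j g) v ≠ v
      rw [hg]; exact hv
    obtain ⟨hN, U, hU⟩ := FFSl2.main h4 hV hne (FFLoc.bo_comap h.bo hinj hAr) (FFLoc.comap_ne_bot h.ne hAr)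
    refine ⟨F, inferInstance, inferInstance, inferInstance, e, h4, hN, U, ?_⟩
    rw [← hU, FFLoc.map_comap hAr]
  · right; left
    obtain ⟨-, h1, -, -, -, ⟨-, h2, -⟩, -⟩ := FFOuter.main h4 e h hV hAL
    obtain ⟨a, ha, haL⟩ := SetLike.not_le_iff_exists.1 hAL
    refine ⟨h2, a, ha, ?_, h1 a ha haL⟩
    rintro rfl
    exact haL (one_mem L)

theorem suzuki {L A : Subgroup H} [L.Normal] (hs : Cfsg.Lie.IsoSuzuki L) (h : Fr ρ L A) (hV : ∀ v : V, v * v = 1) :
    False := by
  have hAL : A ≤ L := by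
    intro a ha
    obtain ⟨F, iF, iF', m, hm, hF, ⟨R⟩⟩ := Cfsg.Agent.ThreePrime.SzRel.exists_rel hs
    obtain ⟨j, hj⟩ := R.inner hm hF (MulAut.conjNormal a) ⟨1, by
      rw [pow_one, pow_two, ← map_mul, h.bo.sq a ha, map_one]⟩
    refine h.inn a ha j j.2 fun k hk => ?_
    have h1 := congrArg (fun α : MulAut L => ((α ⟨k, hk⟩ : L) : H)) hj
    simpa [MulAut.conjNormal_apply] using h1
  have hinj : Function.Injective L.subtype := L.subtype_injective
  have hAr : A ≤ L.subtype.range := by rw [Subgroup.range_subtype]; exact hAL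
  obtain ⟨⟨a, ha⟩, ha1'⟩ := Subgroup.ne_bot_iff_exists_ne_one.1 h.ne
  have ha1 : a ≠ 1 := fun h => ha1' (Subtype.ext h)
  obtain ⟨v, hv⟩ := h.faithL a (hAL ha) ha1
  exact FFLoc.comap_ne_bot h.ne hAr (FFSz.main hs hV (ρ.comp L.subtype) ⟨⟨a, hAL ha⟩, v, hv⟩
    (FFLoc.bo_comap h.bo hinj hAr))

/-- **the local theorem** -/
theorem loc (hc : OddCyc H) (hV : ∀ v : V, v * v = 1) {L A : Subgroup H} [L.Normal] (hK : KZero L)
    (h : Fr ρ L A) : Res ρ L A := by
  rcases hK with ⟨F, _, _, hp, h5, ⟨e⟩⟩ | ⟨F, _, _, f, hf, hF, ⟨e⟩⟩ | hK | ⟨hJ, k, hk⟩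
  · have hodd : Odd (Fintype.card F) := hp.odd_of_ne_two (by omega)
    by_cases h5' : Fintype.card F = 5
    · obtain ⟨K, _, _, _, hK4, ⟨e'⟩⟩ := T1Socle.exists_four h5'
      exact lin (F := K) (by rw [hK4]) (e.trans e').symm h hV
    · have h7 : 7 ≤ Fintype.card F := by
        have h6 : Fintype.card F ≠ 6 := by
          intro h6
          rw [h6] at hp
          revert hp
          norm_num
        omega
      have R := Cfsg.Agent.GH.L2Aut.Rep.ofEquiv (Cfsg.Agent.GH.L2Aut.two_ne_zero_of_odd hodd) e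
      right; right
      have hF' : (Nat.card F).Prime := by rw [Nat.card_eq_fintype_card]; exact hp
      have h7' : 7 ≤ Nat.card F := by rw [Nat.card_eq_fintype_card]; exact h7
      exact ⟨FFPsl.le_L R h hV hc hF' h7', FFThree.l32_of R (FFPsl.seven R h hV hc hF' h7')⟩
  · have h4 : 4 ≤ Fintype.card F := by
      rw [hF]
      calc 4 = 2 ^ 2 := by norm_num
        _ ≤ 2 ^ f := Nat.pow_le_pow_right (by norm_num) hf
    have hch : CharP F 2 := by
      have hch := ringChar.charP F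
      have h1 : ringChar F ∣ 2 ^ f := by
        rw [← hF, ← CharP.cast_eq_zero_iff F (ringChar F), Nat.cast_card_eq_zero]
      have h2 : (ringChar F).Prime := CharP.char_is_prime F (ringChar F)
      have h3 : ringChar F = 2 := (Nat.prime_dvd_prime_iff_eq h2 Nat.prime_two).1 (h2.dvd_of_dvd_pow h1)
      rwa [h3] at hch
    obtain ⟨g⟩ := WeakTI.PslTwo.nonempty_equiv (F := F)
    exact lin h4 (g.trans e.symm) h hV
  · exact (suzuki hK h hV).elim
  · exact (FFJ1.main h hV hJ hk).elim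

theorem Lin.card_eq {L A : Subgroup H} (h : Lin ρ L A) : (CS ρ A).index = Nat.card A := by
  obtain ⟨F, _, _, _, e, h4, hN, U, rfl⟩ := h
  have h1 := hN.index U
  rw [rr, FFLoc.CS_comp] at h1
  have hinj : Function.Injective (L.subtype.comp e.toMonoidHom) := L.subtype_injective.comp e.injective
  rw [h1, Subgroup.card_map_of_injective hinj]
  exact (T1Sl2.card_sylow U).symm

end Cfsg.Agent.OddCyclic.EmptyY.Loc
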