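import Cfsg.Agent.OddCyclic.FFOuter

/-!
# The Borel subgroup of `SL₂(q)`, `q ≥ 4` even, fixes no vector of the natural module
-/

set_option autoImplicit false
set_option linter.unusedSectionVars false

namespace Cfsg.Agent.OddCyclic.EmptyY.Nat

open Cfsg.Agent.OddCyclic.T1Module Cfsg.Agent.OddCyclic.T1Sl2 Cfsg.Agent.OddCyclic.FFBasic Cfsg.Agent.OddCyclic.FFRed
  Cfsg.Agent.OddCyclic.FFSl2 Cfsg.Agent.OddCyclic.FFOuter Matrix
open scoped Pointwise

variable {F : Type*} [Field F] [Fintype F] [CharP F 2] {V : Type*} [CommGroup V] [Finite V]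
  {ρ : SpecialLinearGroup (Fin 2) F →* MulAut V}

theorem exists_unit (h4 : 4 ≤ Fintype.card F) : ∃ s : Fˣ, (s : F) * s ≠ 1 := by
  classical
  obtain ⟨c, hc⟩ : ∃ c : F, c ∉ ({0, 1} : Finset F) := by
    by_contra hcon
    push Not at hcon
    have h1 : Finset.univ ⊆ ({0, 1} : Finset F) := fun x _ => hcon x
    have h2 := Finset.card_le_card h1
    rw [Finset.card_univ] at h2
    have h3 := Finset.card_le_two (a := (0 : F)) (b := 1)
    omega
  rw [Finset.mem_insert, Finset.mem_singleton, not_or] at hc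
  refine ⟨Units.mk0 c hc.1, fun h => hc.2 ?_⟩
  rw [Units.val_mk0] at h
  have h1 : (c - 1) * (c - 1) = 0 := by
    have h2 : (2 : F) = 0 := CharTwo.two_eq_zero
    linear_combination h + (1 - c) * h2
  have h3 := mul_self_eq_zero.1 h1
  linear_combination h3

theorem fixed_std (h4 : 4 ≤ Fintype.card F) (h : IsNat ρ) {v : V} (hv : ∀ g, g • SU F = SU F → ρ g v = v) :
    v ∈ CS ρ ⊤ := by
  obtain ⟨s, hs⟩ := exists_unit h4
  have hsup : (SU F : Subgroup (SpecialLinearGroup (Fin 2) F)) ⊔
      ((ww F • SU F : Sylow 2 (SpecialLinearGroup (Fin 2) F)) : Subgroup _) = ⊤ := by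
    apply sylow_sup
    intro h1
    have h2 := smul_SU_eq.1 h1.symm
    rw [ww10] at h2
    exact one_ne_zero h2
  have hU : v ∈ CS ρ (SU F : Subgroup _) := by
    intro b hb
    exact hv b (Sylow.smul_eq_iff_mem_normalizer.2 (Subgroup.le_normalizer hb))
  have hsw : ww F • ww F • SU F = SU F := by rw [smul_smul, ww_sq, one_smul]
  set v' := ρ (ww F) v with hv'
  have hU' : v' ∈ CS ρ ((ww F • SU F : Sylow 2 (SpecialLinearGroup (Fin 2) F)) : Subgroup _) :=
    smul_mem_CS ρ (SU F) (ww F) hU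
  have ht : ρ (dg s) v = v := hv _ (dg_fix s)
  have ht' : ρ (dg s) v' = v' := by
    have h1 : ρ ((ww F)⁻¹ * dg s * ww F) v = v := by
      apply hv
      rw [mul_smul, mul_smul, dg_fix', inv_smul_smul]
    have h2 : dg s * ww F = ww F * ((ww F)⁻¹ * dg s * ww F) := by group
    rw [hv', ← MulAut.mul_apply, ← map_mul, h2, map_mul, MulAut.mul_apply, h1]
  have htop : ∀ w : V, w ∈ CS ρ (SU F : Subgroup _) →
      w ∈ CS ρ ((ww F • SU F : Sylow 2 (SpecialLinearGroup (Fin 2) F)) : Subgroup _) → w ∈ CS ρ ⊤ := by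
    intro w h1 h2
    rw [← hsup, CS_sup]
    exact ⟨h1, h2⟩
  obtain ⟨U'', hU''⟩ := h.cover (v * v')
  obtain ⟨o, rfl⟩ := syl_surjective U''
  rcases o with _ | τ
  · -- `v'` is fixed by `SU`
    have h1 : v' ∈ CS ρ (SU F : Subgroup _) := by
      have h2 := mul_mem (inv_mem hU) (show v * v' ∈ CS ρ (SU F : Subgroup _) from hU'')
      rwa [inv_mul_cancel_left] at h2
    have h2 := htop v' h1 hU'
    have h3 := h2 (ww F)⁻¹ (Subgroup.mem_top _)
    rw [hv', ← MulAut.mul_apply, ← map_mul, inv_mul_cancel, map_one, MulAut.one_apply] at h3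
    rw [h3]
    exact h2
  · by_cases hτ : τ = 0
    · subst hτ
      have h0 : syl F (some 0) = ww F • SU F := by
        change up (0 : F) • ww F • SU F = _
        rw [up_zero, one_smul]
      rw [h0] at hU''
      have h2 := mul_mem hU'' (inv_mem hU')
      rw [mul_inv_cancel_right] at h2
      exact htop v hU h2
    · -- `v v'` is fixed by two Sylow subgroups
      have hne : syl F (some τ) ≠ dg s • syl F (some τ) := by
        intro h1
        apply hs
        change up τ • ww F • SU F = dg s • up τ • ww F • SU F at h1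
        rw [smul_smul, smul_smul, smul_SU_eq_iff] at h1
        simp only [mul00, mul10, up00, up01, up10, up11, ww00, ww10, dg00, dg01, dg10, dg11, mul_zero, mul_one,
          zero_mul, one_mul, add_zero, zero_add] at h1
        have h2 : (s : F)⁻¹ = (s : F) := by
          apply mul_left_cancel₀ hτ
          rw [Units.val_inv_eq_inv_val] at h1
          linear_combination h1
        have h3 : (s : F) ≠ 0 := s.ne_zero
        calc (s : F) * s = s * (s : F)⁻¹ := by rw [h2]
          _ = 1 := mul_inv_cancel₀ h3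
      have h1 : v * v' ∈ CS ρ ((dg s • syl F (some τ) : Sylow 2 (SpecialLinearGroup (Fin 2) F)) : Subgroup _) := by
        have h2 := smul_mem_CS ρ (syl F (some τ)) (dg s) hU''
        rwa [map_mul, ht, ht'] at h2
      have h2 : v * v' ∈ CS ρ ⊤ := by
        rw [← sylow_sup hne, CS_sup]
        exact ⟨hU'', h1⟩
      have h3 : v ∈ CS ρ ((ww F • SU F : Sylow 2 (SpecialLinearGroup (Fin 2) F)) : Subgroup _) := by
        have h4 := mul_mem (CS_anti le_top h2) (inv_mem hU')
        rwa [mul_inv_cancel_right] at h4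
      exact htop v hU h3

/-- the Borel subgroup fixes no vector outside `C_V(L)` -/
theorem fixed (h4 : 4 ≤ Fintype.card F) (h : IsNat ρ) (U : Sylow 2 (SpecialLinearGroup (Fin 2) F)) {v : V}
    (hv : ∀ g, g • U = U → ρ g v = v) : v ∈ CS ρ ⊤ := by
  obtain ⟨g, rfl⟩ := exists_smul_SU U
  have h1 : ρ g⁻¹ v ∈ CS ρ ⊤ := by
    apply fixed_std h4 h
    intro k hk
    have h2 : ρ (g * k * g⁻¹) v = v := by
      apply hv
      rw [mul_smul, mul_smul, inv_smul_smul, hk]
    have h3 : k * g⁻¹ = g⁻¹ * (g * k * g⁻¹) := by group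
    rw [← MulAut.mul_apply, ← map_mul, h3, map_mul, MulAut.mul_apply, h2]
  have h2 := h1 g (Subgroup.mem_top _)
  rw [← MulAut.mul_apply, ← map_mul, mul_inv_cancel, map_one, MulAut.one_apply] at h2
  rw [h2]
  exact h1

end Cfsg.Agent.OddCyclic.EmptyY.Nat
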