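import Cfsg.Agent.OddCyclic.EmptyY.Blk
import Cfsg.Agent.OddCyclic.EmptyY.Nat

/-!
# Offenders in a block

`Blk ρ K B l`, `ρ` faithful, all involutions have index at least 4 on `V`: an elementary abelian `A ≠ 1` with
`|V : C_V(A)| ≤ |A|` is a best offender, `|V : C_V(A)| = |A|`, and `A` is a Sylow 2-subgroup of `K ≅ SL₂(F)` or
`A ≤ K ≅ L₃(2)`.
-/

set_option autoImplicit false
set_option linter.unusedSectionVars false

namespace Cfsg.Agent.OddCyclic.EmptyY.Off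

open Subgroup Cfsg.Agent.OddCyclic.T1Module Cfsg.Agent.OddCyclic.FFBasic Cfsg.Agent.OddCyclic.FFRed
  Cfsg.Agent.OddCyclic.FFSl2 Cfsg.Agent.OddCyclic.T1Defs Cfsg.Agent.OddCyclic.EmptyY.Blk Cfsg.Agent.OddCyclic.EmptyY.Loc
open Cfsg.Agent.OddCyclic.PumpMain (KZero)

variable {Γ : Type*} [Group Γ] [Finite Γ] {V : Type*} [CommGroup V] [Finite V] {ρ : Γ →* MulAut V}
  {K B : Subgroup Γ} {l : Subgroup V}

/-- a nontrivial subgroup of `A` with `|A'||C(A')|` maximal among the nontrivial subgroups -/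
theorem exists_max {A : Subgroup Γ} (hA1 : A ≠ ⊥) : ∃ A' ≤ A, A' ≠ ⊥ ∧
    ∀ B ≤ A, B ≠ ⊥ → Nat.card B * Nat.card (CS ρ B) ≤ Nat.card A' * Nat.card (CS ρ A') := by
  classical
  obtain ⟨A', hA', hmax⟩ := Set.exists_max_image {B : Subgroup Γ | B ≤ A ∧ B ≠ ⊥}
    (fun B => Nat.card B * Nat.card (CS ρ B)) (Set.toFinite _) ⟨A, le_refl A, hA1⟩
  exact ⟨A', hA'.1, hA'.2, fun B hB hB1 => hmax B ⟨hB, hB1⟩⟩

theorem card_CS_mul (A : Subgroup Γ) : Nat.card (CS ρ A) * (CS ρ A).index = Nat.card V := (CS ρ A).card_mul_index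

theorem le_of_index {A : Subgroup Γ} (h : (CS ρ A).index ≤ Nat.card A) :
    Nat.card V ≤ Nat.card A * Nat.card (CS ρ A) := by
  rw [← card_CS_mul (ρ := ρ) A, mul_comm]
  exact Nat.mul_le_mul_right _ h

theorem bo_of {A A' : Subgroup Γ} (hsq : ∀ a ∈ A, a * a = 1) (hA' : A' ≤ A)
    (hmax : ∀ B ≤ A, B ≠ ⊥ → Nat.card B * Nat.card (CS ρ B) ≤ Nat.card A' * Nat.card (CS ρ A'))
    (h1 : Nat.card V ≤ Nat.card A' * Nat.card (CS ρ A')) : BO ρ A' := by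
  refine ⟨fun a ha => hsq a (hA' ha), fun B hB => ?_⟩
  by_cases hB1 : B = ⊥
  · subst hB1
    rw [CS_bot, Subgroup.card_bot, one_mul, Subgroup.card_top]
    exact h1
  · exact hmax B (hB.trans hA') hB1

theorem card_le_four_sub {A : Subgroup Γ} (hsq : ∀ a ∈ A, a * a = 1) (hAK : A ≤ K) (h : FFThree.L32 K) :
    Nat.card A ≤ 4 := by
  have h1 := FFThree.card_le_four h (A := A.subgroupOf K) (fun a ha => Subtype.ext (hsq a ha))
  rwa [Nat.card_congr (subgroupOfEquivOfLe hAK).toEquiv] at h1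

/-- **offenders in a block** -/
theorem off (hc : OddCyc Γ) (hV : ∀ v : V, v * v = 1) (hρ : Function.Injective ρ) (h : Blk ρ K B l) (hK : KZero K)
    (h4 : ∀ a : Γ, a ≠ 1 → 4 ≤ (fx ρ a).index) {A : Subgroup Γ} (hsq : ∀ a ∈ A, a * a = 1) (hA1 : A ≠ ⊥)
    (hA : (CS ρ A).index ≤ Nat.card A) :
    BO ρ A ∧ (CS ρ A).index = Nat.card A ∧ (Lin ρ K A ∨ (A ≤ K ∧ FFThree.L32 K)) := by
  have hn := h.normal
  have key : ∀ A : Subgroup Γ, BO ρ A → A ≠ ⊥ → (Lin ρ K A ∨ (A ≤ K ∧ FFThree.L32 K)) ∧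
      Nat.card A * Nat.card (CS ρ A) ≤ Nat.card V := by
    intro A hA hA1
    rcases loc hc hV hK (h.fr hρ hA hA1) with h1 | ⟨-, a, -, ha1, h2⟩ | ⟨h1, h2⟩
    · refine ⟨Or.inl h1, ?_⟩
      rw [← h1.card_eq, mul_comm, card_CS_mul]
    · have := h4 a ha1
      omega
    · refine ⟨Or.inr ⟨h1, h2⟩, ?_⟩
      obtain ⟨⟨a, ha⟩, ha1'⟩ := ne_bot_iff_exists_ne_one.1 hA1
      have ha1 : a ≠ 1 := fun h => ha1' (Subtype.ext h)
      have h3 := card_le_four_sub hA.sq h1 h2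
      have h5 := index_le_of_le (CS_le_fx (ρ := ρ) ha)
      have h6 := h4 a ha1
      rw [← card_CS_mul (ρ := ρ) A, mul_comm]
      exact Nat.mul_le_mul_left _ (by omega)
  obtain ⟨A', hA'A, hA'1, hmax⟩ := exists_max (ρ := ρ) hA1
  have h1 := le_of_index hA
  have h2 := hmax A le_rfl hA1
  have h3 := key A' (bo_of hsq hA'A hmax (h1.trans h2)) hA'1
  have h5 : Nat.card A * Nat.card (CS ρ A) = Nat.card V := le_antisymm (h2.trans h3.2) h1
  have hbo : BO ρ A := bo_of hsq le_rfl (fun B hB hB1 => (hmax B hB hB1).trans (by rw [h5]; exact h3.2)) h1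
  refine ⟨hbo, ?_, (key A hbo hA1).1⟩
  have h6 := card_CS_mul (ρ := ρ) A
  have h7 : 0 < Nat.card (CS ρ A) := Nat.card_pos
  apply Nat.eq_of_mul_eq_mul_left h7
  rw [h6, ← h5, mul_comm]

end Cfsg.Agent.OddCyclic.EmptyY.Off
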